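/-
Saturated submodules over polynomial rings over a `t`-adically complete ring.
-/
import Mathlib
import Groth.Agent.AdicRingLib.RigPoint

set_option autoImplicit false
set_option linter.style.haveILetI false
set_option backward.isDefEq.respectTransparency false

universe u v

open MvPolynomial

noncomputable section

namespace Groth.Agent.TopFin

variable {A : Type u} [CommRing A] {t : A}

/-- Successive approximation by a finitely generated submodule. -/
theorem le_of_le_add_smul [IsAdicComplete (Ideal.span {t}) A] {G : Type v} [AddCommGroup G] [Module A G]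
    [IsHausdorff (Ideal.span {t}) G] {V L : Submodule A G} (hV : V.FG)
    (h : ∀ z ∈ L, ∃ v ∈ V, ∃ w ∈ L, z = v + t • w) : L ≤ V := by
  obtain ⟨K, s, hs⟩ := Submodule.fg_iff_exists_fin_generating_family.1 hV
  haveI : IsAdicComplete (Ideal.span {t}) (Fin K → A) :=
    AdicRingLib.isAdicComplete_of_equiv_pi _ (LinearEquiv.refl A (Fin K → A))
  let Φ := Fintype.linearCombination A s
  have hΦ : LinearMap.range Φ = V := by rw [Fintype.range_linearCombination, hs]
  intro z hz
  have hex : ∀ y : L, ∃ (f : Fin K → A) (w : L), (y : G) = Φ f + t • (w : G) := fun y => by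
    obtain ⟨v, hv, w, hw, hvw⟩ := h y y.2
    rw [← hΦ] at hv
    obtain ⟨f, rfl⟩ := hv
    exact ⟨f, ⟨w, hw⟩, hvw⟩
  choose F W hFW using hex
  let zs : ℕ → L := fun i => W^[i] ⟨z, hz⟩
  let ps : ℕ → (Fin K → A) := fun N => ∑ i ∈ Finset.range N, t ^ i • F (zs i)
  have hps : ∀ N, z = Φ (ps N) + t ^ N • (zs N : G) := by
    intro N
    induction N with
    | zero => simp [ps, zs]
    | succ N ih =>
      have h1 : (zs N : G) = Φ (F (zs N)) + t • (zs (N + 1) : G) := by
        rw [show zs (N + 1) = W (zs N) from Function.iterate_succ_apply' W N _]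
        exact hFW _
      conv_lhs => rw [ih, h1, smul_add, ← mul_smul, ← pow_succ, ← map_smul, ← add_assoc, ← map_add]
      simp only [ps, Finset.sum_range_succ]
  obtain ⟨f, hf⟩ := IsPrecomplete.prec (I := Ideal.span {t}) (M := Fin K → A) inferInstance (f := ps) fun {m N} hmN => by
    rw [SModEq.sub_mem]
    simp only [ps, ← Finset.sum_range_sub_sum_range hmN]
    rw [← Submodule.neg_mem_iff, neg_sub, Finset.sum_range_sub_sum_range hmN]
    refine sum_mem fun i hi => Submodule.smul_mem_smul ?_ trivial
    rw [Ideal.span_singleton_pow, Ideal.mem_span_singleton]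
    exact pow_dvd_pow t (Finset.mem_filter.1 hi).2
  rw [← hΦ]
  refine ⟨f, (sub_eq_zero.1 (IsHausdorff.haus (I := Ideal.span {t}) inferInstance (z - Φ f) fun N => ?_)).symm⟩
  rw [SModEq.sub_mem, sub_zero, show z - Φ f = Φ (ps N - f) + t ^ N • (zs N : G) by
    conv_lhs => rw [hps N]
    rw [map_sub]; abel]
  refine add_mem ?_ (Submodule.smul_mem_smul (Ideal.pow_mem_pow (Ideal.mem_span_singleton_self t) N) trivial)
  have h2 := Submodule.mem_map_of_mem (f := Φ) (SModEq.sub_mem.1 (hf N))
  rw [Submodule.map_smul''] at h2
  exact Submodule.smul_mono le_rfl le_top h2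

variable {σ : Type} {n : ℕ}

/-- Dehomogenisation. -/
def dehom (A : Type u) [CommRing A] (σ : Type) : MvPolynomial (Option σ) A →ₐ[A] MvPolynomial σ A :=
  aeval fun o => o.elim 1 X

/-- Homogeneous component of a vector. -/
def hcVec (d : ℕ) : (Fin n → MvPolynomial (Option σ) A) →ₗ[A] (Fin n → MvPolynomial (Option σ) A) :=
  LinearMap.pi fun i => (homogeneousComponent d).comp (LinearMap.proj i)

theorem homogeneousComponent_mul_homogeneous {τ : Type} (d e : ℕ) {g : MvPolynomial τ A} (hg : g.IsHomogeneous e)
    (h : MvPolynomial τ A) :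
    homogeneousComponent d (g * h) = if e ≤ d then g * homogeneousComponent (d - e) h else 0 := by
  classical
  have hh : ∀ i, (g * homogeneousComponent i h).IsHomogeneous (e + i) := fun i =>
    hg.mul (homogeneousComponent_isHomogeneous i h)
  conv_lhs => rw [← sum_homogeneousComponent h, Finset.mul_sum, map_sum]
  simp only [homogeneousComponent_of_mem (hh _)]
  split_ifs with hed
  · rcases lt_or_ge h.totalDegree (d - e) with hlt | hge
    · rw [homogeneousComponent_eq_zero _ _ hlt, mul_zero]
      exact Finset.sum_eq_zero fun i hi => if_neg (by rw [Finset.mem_range] at hi; omega)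
    · rw [Finset.sum_eq_single (d - e) (fun i _ hi => if_neg (by omega))
        (fun hn => absurd (Finset.mem_range.2 (by omega)) hn), if_pos (by omega)]
  · exact Finset.sum_eq_zero fun i hi => if_neg (by omega)

theorem hcVec_smul {e : ℕ} {q : MvPolynomial (Option σ) A} (hq : q.IsHomogeneous e) (d : ℕ)
    (z : Fin n → MvPolynomial (Option σ) A) :
    hcVec d (q • z) = if e ≤ d then q • hcVec (d - e) z else 0 := by
  funext i
  show homogeneousComponent d (q * z i) = _
  rw [homogeneousComponent_mul_homogeneous d e hq]
  split_ifs <;> rfl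

theorem smul_hcVec (d e : ℕ) (q : MvPolynomial (Option σ) A) {z : Fin n → MvPolynomial (Option σ) A}
    (hz : ∀ i, (z i).IsHomogeneous e) :
    hcVec d (q • z) = if e ≤ d then homogeneousComponent (d - e) q • z else 0 := by
  funext i
  show homogeneousComponent d (q * z i) = _
  rw [mul_comm, homogeneousComponent_mul_homogeneous d e (hz i)]
  split_ifs
  · exact mul_comm _ _
  · rfl

/-- The mod `t` finiteness statement. -/
def FGModT (A : Type u) [CommRing A] (t : A) : Prop :=
  ∀ (τ : Type) [Finite τ] (n : ℕ) (N : Submodule (MvPolynomial τ A) (Fin n → MvPolynomial τ A)),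
    (∀ x, t • x ∈ N → x ∈ N) →
    ∃ s : Finset (Fin n → MvPolynomial τ A), (s : Set (Fin n → MvPolynomial τ A)) ⊆ N ∧
      ∀ x ∈ N, ∃ y ∈ Submodule.span (MvPolynomial τ A) (s : Set (Fin n → MvPolynomial τ A)), ∃ w, x = y + t • w

theorem hausdorff_vec [IsAdicComplete (Ideal.span {t}) A] {τ : Type} :
    IsHausdorff (Ideal.span {t}) (Fin n → MvPolynomial τ A) := by
  refine ⟨fun x hx => funext fun i => MvPolynomial.ext _ _ fun m =>
    IsHausdorff.haus (I := Ideal.span {t}) inferInstance _ fun k => ?_⟩
  rw [SModEq.sub_mem, sub_zero]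
  have h := Submodule.mem_map_of_mem (f := (lcoeff A m).comp (LinearMap.proj i)) (SModEq.zero.1 (hx k))
  rw [Submodule.map_smul''] at h
  exact Submodule.smul_mono le_rfl le_top h

/-- Saturated submodules of free modules over polynomial rings over a complete ring are finitely generated. -/
theorem fg_of_saturated_mvPolynomial [IsAdicComplete (Ideal.span {t}) A] [Finite σ] (hmod : FGModT A t)
    (N : Submodule (MvPolynomial σ A) (Fin n → MvPolynomial σ A)) (hsat : ∀ x, t • x ∈ N → x ∈ N) : N.FG := by
  classical
  let P' := MvPolynomial (Option σ) A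
  let ev : (Fin n → P') →ₗ[A] (Fin n → MvPolynomial σ A) :=
    LinearMap.pi fun i => (dehom A σ).toLinearMap.comp (LinearMap.proj i)
  have hev : ∀ (q : P') z, ev (q • z) = dehom A σ q • ev z := fun q z => funext fun i => by
    show dehom A σ (q * z i) = dehom A σ q * dehom A σ (z i)
    exact map_mul _ _ _
  let Nh : Submodule P' (Fin n → P') :=
    { carrier := {z | ∀ d, ev (hcVec d z) ∈ N}
      add_mem' := fun ha hb d => by rw [map_add, map_add]; exact N.add_mem (ha d) (hb d)
      zero_mem' := fun d => by rw [map_zero, map_zero]; exact N.zero_mem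
      smul_mem' := fun q z hz d => by
        induction q using MvPolynomial.induction_on' with
        | monomial m c =>
          rw [hcVec_smul (isHomogeneous_monomial c rfl)]
          split_ifs
          · rw [hev]; exact N.smul_mem _ (hz _)
          · rw [map_zero]; exact N.zero_mem
        | add p q hp hq => rw [add_smul, map_add, map_add]; exact N.add_mem hp hq }
  obtain ⟨s, hsN, hs⟩ := hmod (Option σ) n Nh fun x hx d => hsat _ (by
    have := hx d
    rwa [map_smul, map_smul] at this)
  let G : Finset (ℕ × (Fin n → P')) := s.biUnion fun z =>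
    (Finset.range (Finset.univ.sup (fun i => (z i).totalDegree) + 1)).image fun e => (e, hcVec e z)
  have hG : ∀ p ∈ G, (∀ i, (p.2 i).IsHomogeneous p.1) ∧ ev p.2 ∈ N := by
    intro p hp
    obtain ⟨z, hz, he⟩ := Finset.mem_biUnion.1 hp
    obtain ⟨e, -, rfl⟩ := Finset.mem_image.1 he
    exact ⟨fun i => homogeneousComponent_isHomogeneous _ _, hsN hz e⟩
  refine ⟨G.image fun p => ev p.2, le_antisymm (Submodule.span_le.2 fun y hy => ?_) fun x hx => ?_⟩
  · obtain ⟨p, hp, rfl⟩ := Finset.mem_image.1 hy
    exact (hG p hp).2
  -- homogenise `x`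
  let d := Finset.univ.sup fun i => (x i).totalDegree
  let z : Fin n → P' := fun i => ∑ m ∈ (x i).support,
    (X none) ^ (d - m.degree) * rename some (monomial m ((x i).coeff m))
  have hz : ∀ i, (z i).IsHomogeneous d := fun i => IsHomogeneous.sum _ _ _ fun m hm => by
    have hle : m.degree ≤ d := (le_totalDegree hm).trans (Finset.le_sup (f := fun i => (x i).totalDegree) (Finset.mem_univ i))
    have h := (isHomogeneous_X_pow (R := A) (none : Option σ) (d - m.degree)).mul
      ((isHomogeneous_monomial ((x i).coeff m) (rfl : m.degree = m.degree)).rename_isHomogeneous (f := some))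
    rwa [show d - m.degree + m.degree = d by omega] at h
  have hevz : ev z = x := funext fun i => by
    show dehom A σ (z i) = x i
    rw [map_sum]
    conv_rhs => rw [(x i).as_sum]
    refine Finset.sum_congr rfl fun m _ => ?_
    rw [map_mul, map_pow, dehom, aeval_X, aeval_rename, show ((fun o : Option σ => o.elim 1 X) ∘ some : σ → MvPolynomial σ A) = X from rfl,
      aeval_X_left_apply]
    simp
  have hzc : hcVec d z = z := funext fun i => homogeneousComponent_eq_self (hz i)
  let L : Submodule A (Fin n → P') := LinearMap.ker (hcVec d - LinearMap.id) ⊓ (N.restrictScalars A).comap ev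
  have hzL : z ∈ L := ⟨show hcVec d z - z = 0 by rw [hzc, sub_self], show ev z ∈ N by rw [hevz]; exact hx⟩
  let V : Submodule A (Fin n → P') := ⨆ p : {p // p ∈ G ∧ p.1 ≤ d},
    (homogeneousSubmodule (Option σ) A (d - p.1.1)).map ((LinearMap.id : P' →ₗ[A] P').smulRight p.1.2)
  haveI : Finite {p // p ∈ G ∧ p.1 ≤ d} := Finite.of_injective (fun p => (⟨p.1, p.2.1⟩ : G))
    fun p q h => Subtype.ext (congrArg Subtype.val h :)
  have hV : V.FG := Submodule.fg_iSup _ fun p => Submodule.FG.map _ (homogeneousSubmodule_fg _ _ _)
  have hVN : ∀ v ∈ V, ev v ∈ Submodule.span (MvPolynomial σ A) (↑(G.image fun p => ev p.2) : Set _) := by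
    intro v hv
    refine Submodule.iSup_induction _ (motive := fun v => ev v ∈ Submodule.span _ _) hv (fun p v hv => ?_)
      (by simp) (fun a b ha hb => by rw [map_add]; exact add_mem ha hb)
    obtain ⟨q, -, rfl⟩ := hv
    rw [LinearMap.smulRight_apply, LinearMap.id_apply, hev]
    exact Submodule.smul_mem _ _ (Submodule.subset_span (Finset.mem_image.2 ⟨p.1, p.2.1, rfl⟩))
  haveI : IsHausdorff (Ideal.span {t}) (Fin n → P') := hausdorff_vec
  have hLV : L ≤ V := by
    refine le_of_le_add_smul (t := t) hV fun y ⟨hy1, hy2⟩ => ?_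
    have hyc : hcVec d y = y := sub_eq_zero.1 hy1
    obtain ⟨c, hc, w, hw⟩ := hs y (fun e => by
      rcases eq_or_ne e d with rfl | hne
      · rw [hyc]; exact hy2
      · have : hcVec e y = 0 := funext fun i => by
          show homogeneousComponent e (y i) = 0
          rw [← congrFun hyc i]
          exact (homogeneousComponent_of_mem (homogeneousComponent_isHomogeneous d _)).trans (if_neg hne)
        rw [this, map_zero]; exact N.zero_mem)
    have hcV : hcVec d c ∈ V := by
      obtain ⟨f, -, hf⟩ := Submodule.mem_span_finset.1 hc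
      rw [← hf, map_sum]
      refine sum_mem fun g hg => ?_
      set D := Finset.univ.sup fun i => (g i).totalDegree
      have hgs : g = ∑ e ∈ Finset.range (D + 1), hcVec e g := funext fun i => by
        rw [Finset.sum_apply]
        show g i = ∑ e ∈ Finset.range (D + 1), homogeneousComponent e (g i)
        conv_lhs => rw [← sum_homogeneousComponent (g i)]
        refine Finset.sum_subset (Finset.range_mono (Nat.succ_le_succ (Finset.le_sup (f := fun i => (g i).totalDegree) (Finset.mem_univ i))))
          fun e he he' => homogeneousComponent_eq_zero _ _ (by rw [Finset.mem_range] at he'; omega)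
      rw [show f g • g = ∑ e ∈ Finset.range (D + 1), f g • hcVec e g by rw [← Finset.smul_sum, ← hgs], map_sum]
      refine sum_mem fun e he => ?_
      rw [smul_hcVec d e (f g) (z := hcVec e g) (fun i => homogeneousComponent_isHomogeneous _ _)]
      split_ifs with hed
      · exact Submodule.mem_iSup_of_mem ⟨(e, hcVec e g), Finset.mem_biUnion.2 ⟨g, hg, Finset.mem_image.2 ⟨e, he, rfl⟩⟩, hed⟩
          ⟨_, homogeneousComponent_mem _ _, rfl⟩
      · exact V.zero_mem
    have hy' : y = hcVec d c + t • hcVec d w := by rw [← map_smul, ← map_add, ← hw, hyc]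
    refine ⟨_, hcV, hcVec d w, ⟨?_, ?_⟩, hy'⟩
    · exact sub_eq_zero.2 (funext fun i => homogeneousComponent_eq_self (homogeneousComponent_isHomogeneous d _))
    · refine hsat _ ?_
      rw [← map_smul, show t • hcVec d w = y - hcVec d c by rw [hy', add_sub_cancel_left], map_sub]
      exact N.sub_mem hy2 (Submodule.span_le.2 (fun a ha => by
        obtain ⟨p, hp, rfl⟩ := Finset.mem_image.1 ha
        exact (hG p hp).2) (hVN _ hcV))
  rw [← hevz]
  exact hVN _ (hLV hzL)

end Groth.Agent.TopFin
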