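/-
Finite flat modules over polynomial rings over a local ring with nil maximal ideal are finitely presented.
-/
import Mathlib

set_option autoImplicit false
set_option linter.style.haveILetI false
set_option backward.isDefEq.respectTransparency false

universe u v

open MvPolynomial IsLocalRing
open scoped TensorProduct

noncomputable section

namespace Groth.Agent.TopFin

variable {τ : Type} {n : ℕ}

/-- The monomial vectors. -/
def monVec (A : Type u) [CommRing A] (α : Fin n × (τ →₀ ℕ)) : Fin n → MvPolynomial τ A :=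
  Pi.single α.1 (monomial α.2 1)

/-- Coefficientwise change of rings. -/
def mapVec {A : Type u} [CommRing A] {B : Type v} [CommRing B] (f : A →+* B) :
    (Fin n → MvPolynomial τ A) →ₛₗ[(MvPolynomial.map f : MvPolynomial τ A →+* MvPolynomial τ B)] (Fin n → MvPolynomial τ B) where
  toFun x j := MvPolynomial.map f (x j)
  map_add' x y := funext fun j => map_add _ _ _
  map_smul' q x := funext fun j => map_mul _ _ _

theorem mapVec_apply {A : Type u} [CommRing A] {B : Type v} [CommRing B] (f : A →+* B)
    (x : Fin n → MvPolynomial τ A) (j : Fin n) : mapVec f x j = MvPolynomial.map f (x j) := rfl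

theorem mapVec_monVec {A : Type u} [CommRing A] {B : Type v} [CommRing B] (f : A →+* B) (α : Fin n × (τ →₀ ℕ)) :
    mapVec f (monVec A α) = monVec B α := funext fun j => by
  rcases eq_or_ne j α.1 with rfl | h
  · simp [mapVec_apply, monVec]
  · simp [mapVec_apply, monVec, h]

theorem vec_eq_sum {A : Type u} [CommRing A] (x : Fin n → MvPolynomial τ A) :
    x = ∑ j, ∑ m ∈ (x j).support, (x j).coeff m • monVec A (j, m) := by
  conv_lhs => rw [← Finset.univ_sum_single x]
  refine Finset.sum_congr rfl fun j _ => ?_
  conv_lhs => rw [(x j).as_sum]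
  rw [show (Pi.single j (∑ m ∈ (x j).support, monomial m ((x j).coeff m)) : Fin n → MvPolynomial τ A) =
    LinearMap.single A _ j (∑ m ∈ (x j).support, monomial m ((x j).coeff m)) from rfl, map_sum]
  refine Finset.sum_congr rfl fun m _ => ?_
  rw [LinearMap.single_apply, monVec, ← Pi.single_smul', smul_monomial, smul_eq_mul, mul_one]

theorem mem_smul_top_of_coeff_mem {A : Type u} [CommRing A] (J : Ideal A) (x : Fin n → MvPolynomial τ A)
    (h : ∀ j m, (x j).coeff m ∈ J) : x ∈ J • (⊤ : Submodule A (Fin n → MvPolynomial τ A)) := by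
  rw [vec_eq_sum x]
  exact sum_mem fun j _ => sum_mem fun m _ => Submodule.smul_mem_smul (h j m) trivial

/-- A finite module over a polynomial ring over a local ring with nil maximal ideal, flat over that local
ring, is finitely presented. -/
theorem fg_of_flat_quotient {S : Type u} [CommRing S] [IsLocalRing S]
    (hS : maximalIdeal S ≤ nilradical S) [Finite τ]
    (K : Submodule (MvPolynomial τ S) (Fin n → MvPolynomial τ S))
    [Module.Flat S ((Fin n → MvPolynomial τ S) ⧸ K)] : K.FG := by
  classical
  let k := ResidueField S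
  let Qk := MvPolynomial τ k
  let res := IsLocalRing.residue S
  obtain ⟨t, htK, htspan⟩ := (Submodule.fg_span_iff_fg_span_finset_subset
    (mapVec res '' (K : Set (Fin n → MvPolynomial τ S)))).1
    (IsNoetherian.noetherian (R := Qk) (Submodule.span Qk (mapVec res '' (K : Set (Fin n → MvPolynomial τ S)))))
  choose r hrK hr using fun z : t => htK z.2
  -- a noetherian local ring of definition
  let cs : Set S := ⋃ z : t, ⋃ j, ((r z j).coeffs : Set S)
  have hcs : cs.Finite := Set.finite_iUnion fun z => Set.finite_iUnion fun j => Finset.finite_toSet _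
  let S1 := Subring.closure cs
  haveI : IsNoetherianRing S1 := is_noetherian_subring_closure cs hcs
  let p := (maximalIdeal S).comap S1.subtype
  let S0 := Localization.AtPrime p
  let θ : S0 →+* S := IsLocalization.lift (M := p.primeCompl) (g := S1.subtype) fun y =>
    notMem_maximalIdeal.1 y.2
  have hθc : θ.comp (algebraMap S1 S0) = S1.subtype := IsLocalization.lift_comp _
  let J : Ideal S := (maximalIdeal S0).map θ
  have hJle : J ≤ maximalIdeal S := by
    show (maximalIdeal S0).map θ ≤ _
    rw [← IsLocalization.AtPrime.map_eq_maximalIdeal p S0, Ideal.map_map, hθc, Ideal.map_le_iff_le_comap]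
  obtain ⟨N, hJN⟩ : IsNilpotent J :=
    (Ideal.FG.isNilpotent_iff_le_nilradical (Ideal.FG.map (IsNoetherian.noetherian (maximalIdeal S0)) θ)).2 (hJle.trans hS)
  haveI : IsLocalHom θ := ⟨fun a ha => by
    by_contra h
    exact (mem_maximalIdeal (R := S) (θ a)).1 (hJle (Ideal.mem_map_of_mem θ ((mem_maximalIdeal a).2 h))) ha⟩
  let k0 := ResidueField S0
  let ι : k0 →+* k := ResidueField.map θ
  let res0 := IsLocalRing.residue S0
  have hι : ι.comp res0 = res.comp θ := rfl
  have hlift : ∀ z : t, ∃ r0 : Fin n → MvPolynomial τ S0, mapVec θ r0 = r z := fun z => by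
    choose g hg using fun j => MvPolynomial.mem_range_map_iff_coeffs_subset.2
      (show ((r z j).coeffs : Set S) ⊆ Set.range θ from fun c hc =>
        ⟨algebraMap S1 S0 ⟨c, Subring.subset_closure (Set.mem_iUnion.2 ⟨z, Set.mem_iUnion.2 ⟨j, hc⟩⟩)⟩,
          RingHom.congr_fun hθc _⟩)
    exact ⟨g, funext hg⟩
  choose r0 hr0 using hlift
  -- the monomial basis of the quotient over the small residue field
  let W0 : Submodule (MvPolynomial τ k0) (Fin n → MvPolynomial τ k0) :=
    Submodule.span _ (Set.range fun z => mapVec res0 (r0 z))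
  let vv : Fin n × (τ →₀ ℕ) → ((Fin n → MvPolynomial τ k0) ⧸ W0.restrictScalars k0) := fun α =>
    (W0.restrictScalars k0).mkQ (monVec k0 α)
  obtain ⟨κ, a, -, hspan, hli⟩ := exists_linearIndependent' k0 vv
  have htop : Submodule.span k0 (Set.range vv) = ⊤ := by
    refine eq_top_iff.2 fun x _ => ?_
    obtain ⟨x, rfl⟩ := (W0.restrictScalars k0).mkQ_surjective x
    rw [vec_eq_sum x, map_sum]
    refine sum_mem fun j _ => ?_
    rw [map_sum]
    refine sum_mem fun m _ => ?_
    rw [map_smul]
    exact Submodule.smul_mem _ _ (Submodule.subset_span ⟨(j, m), rfl⟩)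
  let Bq := Module.Basis.mk hli (by rw [hspan, htop])
  let e : Fin n × (τ →₀ ℕ) → (Fin n → MvPolynomial τ S) := monVec S
  -- spanning
  let Rr : Submodule (MvPolynomial τ S) (Fin n → MvPolynomial τ S) := Submodule.span _ (Set.range r)
  have hRK : Rr ≤ K := Submodule.span_le.2 (by rintro _ ⟨z, rfl⟩; exact hrK z)
  let U : Submodule S (Fin n → MvPolynomial τ S) := Rr.restrictScalars S ⊔ Submodule.span S (Set.range (e ∘ a))
  have hUJ : (⊤ : Submodule S (Fin n → MvPolynomial τ S)) ≤ U ⊔ J • ⊤ := by
    intro x _
    rw [vec_eq_sum x]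
    refine sum_mem fun j _ => sum_mem fun m _ => Submodule.smul_mem _ _ ?_
    obtain ⟨c, hc⟩ := Finsupp.mem_span_range_iff_exists_finsupp.1
      (show vv (j, m) ∈ Submodule.span k0 (Set.range (vv ∘ a)) by rw [hspan, htop]; trivial)
    have hd : monVec k0 (j, m) - c.sum (fun γ cc => cc • monVec k0 (a γ)) ∈ W0 := by
      rw [← W0.restrictScalars_mem k0, ← Submodule.Quotient.mk_eq_zero, Submodule.Quotient.mk_sub,
        sub_eq_zero, ← Submodule.mkQ_apply, ← Submodule.mkQ_apply, map_finsuppSum]
      simp only [map_smul]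
      exact hc.symm
    obtain ⟨q, hq⟩ := (Submodule.mem_span_range_iff_exists_fun _).1 hd
    choose c' hc' using fun γ => IsLocalRing.residue_surjective (R := S0) (c γ)
    choose q' hq' using fun z => MvPolynomial.map_surjective res0 IsLocalRing.residue_surjective (q z)
    have hc2 : ∀ γ, res0 (c' γ) = c γ := hc'
    have hq2 : ∀ z, MvPolynomial.map res0 (q' z) = q z := hq'
    set d0 : Fin n → MvPolynomial τ S0 :=
      monVec S0 (j, m) - c.sum (fun γ _ => c' γ • monVec S0 (a γ)) - ∑ z, q' z • r0 z with hd0
    have hd0res : mapVec res0 d0 = 0 := by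
      have h1 : ∀ (s : S0) (v : Fin n → MvPolynomial τ S0), mapVec res0 (s • v) = res0 s • mapVec res0 v := fun s v =>
        funext fun i => by simp [mapVec_apply, MvPolynomial.smul_eq_C_mul]
      rw [hd0, map_sub, map_sub, map_finsuppSum, map_sum, sub_eq_zero, mapVec_monVec]
      simp only [h1, mapVec_monVec, LinearMap.map_smulₛₗ, hq2]
      simp only [hc2]
      exact hq.symm
    have hmem : mapVec θ d0 ∈ J • (⊤ : Submodule S (Fin n → MvPolynomial τ S)) := by
      refine mem_smul_top_of_coeff_mem J _ fun i l => ?_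
      rw [mapVec_apply, MvPolynomial.coeff_map]
      refine Ideal.mem_map_of_mem θ ((IsLocalRing.residue_eq_zero_iff _).1 ?_)
      have h2 := congrArg (fun v => (v i).coeff l) hd0res
      simpa only [mapVec_apply, MvPolynomial.coeff_map, Pi.zero_apply, MvPolynomial.coeff_zero] using h2
    have heq : mapVec θ d0 = e (j, m) - c.sum (fun γ _ => θ (c' γ) • e (a γ)) - ∑ z, MvPolynomial.map θ (q' z) • r z := by
      have h1 : ∀ (s : S0) (v : Fin n → MvPolynomial τ S0), mapVec θ (s • v) = θ s • mapVec θ v := fun s v =>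
        funext fun i => by simp [mapVec_apply, MvPolynomial.smul_eq_C_mul]
      rw [hd0, map_sub, map_sub, map_finsuppSum, map_sum, mapVec_monVec]
      simp only [h1, mapVec_monVec, LinearMap.map_smulₛₗ, hr0, e]
    rw [show monVec S (j, m) = mapVec θ d0 + c.sum (fun γ _ => θ (c' γ) • e (a γ)) +
      ∑ z, MvPolynomial.map θ (q' z) • r z by rw [heq]; abel]
    refine add_mem (add_mem (Submodule.mem_sup_right hmem) (Submodule.mem_sup_left ?_)) (Submodule.mem_sup_left ?_)
    · exact Submodule.mem_sup_right (sum_mem fun γ _ => Submodule.smul_mem _ _ (Submodule.subset_span ⟨γ, rfl⟩))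
    · exact Submodule.mem_sup_left (show _ ∈ Rr from
        sum_mem fun z _ => Rr.smul_mem _ (Submodule.subset_span ⟨z, rfl⟩))
  have hU : ∀ l : ℕ, (⊤ : Submodule S (Fin n → MvPolynomial τ S)) ≤ U ⊔ J ^ l • ⊤ := by
    intro l
    induction l with
    | zero => rw [pow_zero, Ideal.one_eq_top, Submodule.top_smul]; exact le_sup_right
    | succ l ih =>
      refine ih.trans (sup_le le_sup_left ?_)
      calc J ^ l • ⊤ ≤ J ^ l • (U ⊔ J • ⊤) := smul_mono_right _ hUJ
        _ = J ^ l • U ⊔ J ^ (l + 1) • ⊤ := by rw [Submodule.smul_sup, pow_succ, Submodule.mul_smul]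
        _ ≤ _ := sup_le_sup_right Submodule.smul_le_right _
  have hUtop : (⊤ : Submodule S (Fin n → MvPolynomial τ S)) ≤ U := by simpa [hJN] using hU N
  -- independence
  let bk : Module.Basis (Σ _ : Fin n, τ →₀ ℕ) k (Fin n → Qk) :=
    Pi.basis fun _ => MvPolynomial.basisMonomials τ k
  let φ : κ → ((Fin n → MvPolynomial τ k0) →ₗ[k0] k0) := fun β => Bq.coord β ∘ₗ (W0.restrictScalars k0).mkQ
  let Φ : κ → ((Fin n → Qk) →ₗ[k] k) := fun β => bk.constr k fun α => ι (φ β (monVec k0 (α.1, α.2)))
  have hbk : ∀ (j : Fin n) (m : τ →₀ ℕ), bk ⟨j, m⟩ = monVec k (j, m) := fun j m => by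
    simp [bk, monVec, Pi.basis_apply]
    rfl
  have hΦ : ∀ β (x : Fin n → MvPolynomial τ k0), Φ β (mapVec ι x) = ι (φ β x) := fun β x => by
    have h1 : ∀ (s : k0) (v : Fin n → MvPolynomial τ k0), mapVec ι (s • v) = ι s • mapVec ι v := fun s v =>
      funext fun i => by simp [mapVec_apply, MvPolynomial.smul_eq_C_mul]
    rw [vec_eq_sum x]
    simp only [map_sum, h1, mapVec_monVec, map_smul, smul_eq_mul, map_mul, ← hbk, Φ, Module.Basis.constr_basis]
  have hres : ∀ z, mapVec res (r z) = mapVec ι (mapVec res0 (r0 z)) := fun z => funext fun i => by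
    rw [← hr0, mapVec_apply, mapVec_apply, mapVec_apply, mapVec_apply, MvPolynomial.map_map, MvPolynomial.map_map, hι]
  have hΦK : ∀ β, ∀ x ∈ K, Φ β (mapVec res x) = 0 := by
    intro β x hx
    have hmem : mapVec res x ∈ Submodule.span Qk (Set.range fun z => mapVec res (r z)) := by
      have := Submodule.subset_span (R := Qk) (Set.mem_image_of_mem (mapVec res) hx)
      rw [htspan] at this
      exact Submodule.span_mono (show (t : Set (Fin n → Qk)) ⊆ Set.range fun z => mapVec res (r z) from
        fun y hy => ⟨⟨y, hy⟩, hr ⟨y, hy⟩⟩) this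
    obtain ⟨q, hq⟩ := (Submodule.mem_span_range_iff_exists_fun _).1 hmem
    rw [← hq, map_sum]
    refine Finset.sum_eq_zero fun z _ => ?_
    induction q z using MvPolynomial.induction_on' with
    | monomial m c =>
      rw [show (monomial m c : Qk) = c • monomial m 1 by rw [smul_monomial, smul_eq_mul, mul_one], smul_assoc,
        map_smul, hres, show (monomial m (1 : k) : Qk) = MvPolynomial.map ι (monomial m 1) by simp,
        ← LinearMap.map_smulₛₗ, hΦ,
        show φ β ((monomial m (1 : k0) : MvPolynomial τ k0) • mapVec res0 (r0 z)) = 0 by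
          simp only [φ, LinearMap.comp_apply, Submodule.mkQ_apply]
          rw [(Submodule.Quotient.mk_eq_zero (W0.restrictScalars k0)).2
            (show _ ∈ W0.restrictScalars k0 from W0.smul_mem _ (Submodule.subset_span ⟨z, rfl⟩)), map_zero],
        map_zero, smul_zero]
    | add p q hp hq => rw [add_smul, map_add, hp, hq, add_zero]
  let g : κ → (((Fin n → MvPolynomial τ S) ⧸ K) →ₗ[S] k) := fun β =>
    (K.restrictScalars S).liftQ
      { toFun := fun x => Φ β (mapVec res x)
        map_add' := fun x y => by rw [map_add, map_add]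
        map_smul' := fun s x => by
          rw [show mapVec res (s • x) = res s • mapVec res x from
            funext fun i => by simp [mapVec_apply, MvPolynomial.smul_eq_C_mul], map_smul]
          rfl }
      (fun x hx => hΦK β x hx)
  have hindep : LinearIndependent S fun β => (Submodule.Quotient.mk (e (a β)) : (Fin n → MvPolynomial τ S) ⧸ K) := by
    refine Module.IsLocalRing.linearIndependent_of_flat _ (linearIndependent_iff'.2 fun s f hf β hβ => ?_)
    have h := congrArg ((g β).liftBaseChange k) hf
    simp only [map_sum, map_smul, map_zero, Function.comp_apply, TensorProduct.mk_apply,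
      LinearMap.liftBaseChange_tmul, one_smul, smul_eq_mul] at h
    have hval : ∀ γ, g β (Submodule.Quotient.mk (e (a γ))) = if γ = β then 1 else 0 := fun γ => by
      show Φ β (mapVec res (monVec S (a γ))) = _
      rw [mapVec_monVec, ← mapVec_monVec ι, hΦ]
      show ι (Bq.coord β (vv (a γ))) = _
      rw [show vv (a γ) = Bq γ from (Module.Basis.mk_apply hli _ γ).symm, Module.Basis.coord_apply,
        Module.Basis.repr_self, Finsupp.single_apply, apply_ite ι, map_one, map_zero]
    simp only [hval, mul_ite, mul_one, mul_zero, Finset.sum_ite_eq', hβ, if_true] at h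
    exact h
  have hK : K ≤ Rr := by
    intro x hx
    obtain ⟨y, hy, w, hw, rfl⟩ := Submodule.mem_sup.1 (hUtop (trivial : x ∈ ⊤))
    obtain ⟨c, rfl⟩ := Finsupp.mem_span_range_iff_exists_finsupp.1 hw
    have hw' : (Submodule.Quotient.mk (c.sum fun γ cc => cc • (e ∘ a) γ) : (Fin n → MvPolynomial τ S) ⧸ K) = 0 :=
      (Submodule.Quotient.mk_eq_zero K).2 (by simpa using sub_mem hx (hRK hy))
    have hc : c = 0 := by
      refine linearIndependent_iff.1 hindep c ?_
      rw [Finsupp.linearCombination_apply, ← hw', ← Submodule.mkQ_apply, ← LinearMap.coe_restrictScalars S, map_finsuppSum]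
      rfl
    simpa [hc] using hy
  rw [le_antisymm hK hRK]
  exact Submodule.fg_span (Set.finite_range r)

end Groth.Agent.TopFin
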