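/-
Saturation and Artin–Rees for algebras of finite type over algebras topologically of finite type.
-/
import Mathlib
import Groth.Prelude.Def_W4bk4boschfrg79
import Groth.Agent.AdicRingLib.RigNorm
import Groth.Agent.AdicRingLib.Chart
import Groth.Agent.ResExt.Completion
import Groth.Agent.TopFin.NilFlat
import Groth.Agent.TopFin.Graded

set_option autoImplicit false
set_option linter.style.haveILetI false
set_option backward.isDefEq.respectTransparency false

universe u

open MvPolynomial
open scoped TensorProduct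

noncomputable section

namespace Groth.Agent.TopFin

variable (R : Type u) [CommRing R] (I : Ideal R) (B : Type u) [CommRing B] [Algebra R B]

/-- Saturated submodules of finite modules are finitely generated. -/
def Sat : Prop :=
  ∀ (M : Type u) [AddCommGroup M] [Module B M] [Module R M] [IsScalarTower R B M] [Module.Finite B M]
    (N : Submodule B M), (∀ (x : M) (n : ℕ), (∀ a ∈ I ^ n, a • x ∈ N) → x ∈ N) → N.FG

/-- The Artin–Rees property. -/
def AR : Prop :=
  ∀ (M : Type u) [AddCommGroup M] [Module B M] [Module R M] [IsScalarTower R B M] [Module.Finite B M]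
    (N : Submodule B M), ∃ n₀ : ℕ, ∀ m : ℕ,
      (I ^ (m + n₀) • (⊤ : Submodule R M)) ⊓ N.restrictScalars R ≤ I ^ m • N.restrictScalars R

/-- Both properties. -/
def Good : Prop := Sat R I B ∧ AR R I B

variable {R I B}

theorem Good.of_surjective {P : Type u} [CommRing P] [Algebra R P] (φ : P →ₐ[R] B) (hφ : Function.Surjective φ)
    (h : Good R I P) : Good R I B := by
  refine ⟨fun M _ _ _ _ _ N hN => ?_, fun M _ _ _ _ _ N => ?_⟩
  all_goals
    letI : Module P M := Module.compHom M φ.toRingHom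
    haveI : IsScalarTower R P M := ⟨fun r p x => by
      show φ (r • p) • x = r • (φ p • x)
      rw [map_smul, smul_assoc]⟩
    haveI : Module.Finite P M := by
      obtain ⟨s, hs⟩ := Module.Finite.fg_top (R := B) (M := M)
      refine ⟨⟨s, eq_top_iff.2 fun x hxT => ?_⟩⟩
      clear hxT
      have hx : x ∈ Submodule.span B (s : Set M) := hs ▸ trivial
      induction hx using Submodule.span_induction with
      | mem y hy => exact Submodule.subset_span hy
      | zero => exact Submodule.zero_mem _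
      | add a b _ _ ha hb => exact add_mem ha hb
      | smul b y _ hy =>
        obtain ⟨p, rfl⟩ := hφ b
        exact Submodule.smul_mem _ p hy
    let N' : Submodule P M :=
      { carrier := N
        add_mem' := N.add_mem
        zero_mem' := N.zero_mem
        smul_mem' := fun p x hx => N.smul_mem (φ p) hx }
  · obtain ⟨s, hs⟩ := h.1 M N' hN
    refine ⟨s, le_antisymm (Submodule.span_le.2 fun y hy => ?_) fun x hx => ?_⟩
    · exact show y ∈ N' from hs ▸ Submodule.subset_span hy
    · have hx' : x ∈ Submodule.span P (s : Set M) := hs.symm ▸ (show x ∈ N' from hx)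
      induction hx' using Submodule.span_induction with
      | mem y hy => exact Submodule.subset_span hy
      | zero => exact Submodule.zero_mem _
      | add a b ha' hb' ha hb =>
        exact add_mem (ha (show a ∈ N' from hs ▸ ha')) (hb (show b ∈ N' from hs ▸ hb'))
      | smul p y hy' hy => exact Submodule.smul_mem _ (φ p) (hy (show y ∈ N' from hs ▸ hy'))
  · exact h.2 M N'

theorem sat_of_pi (h : ∀ (n : ℕ) (N : Submodule B (Fin n → B)),
    (∀ (x : Fin n → B) (k : ℕ), (∀ a ∈ I ^ k, a • x ∈ N) → x ∈ N) → N.FG) : Sat R I B := by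
  intro M _ _ _ _ _ N hN
  obtain ⟨n, f, hf⟩ := Module.Finite.exists_fin' B M
  have hfg := h n (N.comap f) fun x k hx => hN (f x) k fun a ha => by
    have := hx a ha
    rwa [Submodule.mem_comap, LinearMap.map_smul_of_tower] at this
  rw [← Submodule.map_comap_eq_of_surjective hf N]
  exact hfg.map f

theorem good_of_isNoetherianRing [IsNoetherianRing B] : Good R I B := by
  refine ⟨fun M _ _ _ _ _ N _ => ?_, fun M _ _ _ _ _ N => ?_⟩
  · exact IsNoetherian.noetherian N
  · obtain ⟨k, hk⟩ := Ideal.exists_pow_inf_eq_pow_smul (I.map (algebraMap R B)) N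
    refine ⟨k, fun m x ⟨hx, hxN⟩ => ?_⟩
    rw [← Ideal.smul_restrictScalars, Ideal.map_pow]
    have h1 : x ∈ ((I ^ (m + k)).map (algebraMap R B) • (⊤ : Submodule B M)).restrictScalars R := by
      rw [Ideal.smul_restrictScalars]; exact hx
    have h2 : x ∈ (I.map (algebraMap R B)) ^ (m + k) • (⊤ : Submodule B M) ⊓ N := by
      rw [← Ideal.map_pow]; exact ⟨h1, hxN⟩
    rw [hk (m + k) (by omega), Nat.add_sub_cancel] at h2
    rw [Submodule.restrictScalars_mem]
    exact Submodule.smul_mono le_rfl inf_le_right h2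

theorem ar_of_sat {t : R} (h : Sat R (Ideal.span {t}) B) : AR R (Ideal.span {t}) B := by
  intro M _ _ _ _ _ N
  let Ns : Submodule B M :=
    { carrier := {x | ∃ n : ℕ, t ^ n • x ∈ N}
      add_mem' := fun {a b} ⟨i, hi⟩ ⟨j, hj⟩ => ⟨i + j, by
        rw [smul_add]
        refine N.add_mem ?_ ?_
        · rw [add_comm, pow_add, mul_smul]; exact N.smul_of_tower_mem _ hi
        · rw [pow_add, mul_smul]; exact N.smul_of_tower_mem _ hj⟩
      zero_mem' := ⟨0, by rw [smul_zero]; exact N.zero_mem⟩
      smul_mem' := fun b x ⟨i, hi⟩ => ⟨i, by rw [smul_comm]; exact N.smul_mem b hi⟩ }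
  obtain ⟨s, hs⟩ := h M Ns fun x n hx => by
    obtain ⟨i, hi⟩ := hx (t ^ n) (Ideal.pow_mem_pow (Ideal.mem_span_singleton_self t) n)
    exact ⟨i + n, by rw [pow_add, mul_smul]; exact hi⟩
  choose e he using fun y : s => (show (y : M) ∈ Ns from hs ▸ Submodule.subset_span y.2 : ∃ n : ℕ, t ^ n • (y : M) ∈ N)
  refine ⟨Finset.univ.sup e, fun m x ⟨hx, hxN⟩ => ?_⟩
  rw [Ideal.span_singleton_pow, Submodule.ideal_span_singleton_smul] at hx ⊢
  obtain ⟨y, -, rfl⟩ := (Submodule.mem_smul_pointwise_iff_exists _ _ _).1 hx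
  have hy : y ∈ Submodule.span B (s : Set M) := hs.symm ▸ (show y ∈ Ns from ⟨_, hxN⟩)
  have hn0 : ∀ z ∈ Submodule.span B (s : Set M), t ^ (Finset.univ.sup e) • z ∈ N := by
    intro z hz
    induction hz using Submodule.span_induction with
    | mem z hz =>
      obtain ⟨c, hc⟩ := Nat.exists_eq_add_of_le (Finset.le_sup (f := e) (Finset.mem_univ ⟨z, hz⟩))
      rw [hc, add_comm, pow_add, mul_smul]
      exact N.smul_of_tower_mem _ (he ⟨z, hz⟩)
    | zero => rw [smul_zero]; exact N.zero_mem
    | add a b _ _ ha hb => rw [smul_add]; exact N.add_mem ha hb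
    | smul b y _ hy => rw [smul_comm]; exact N.smul_mem b hy
  refine (Submodule.mem_smul_pointwise_iff_exists _ _ _).2 ⟨t ^ (Finset.univ.sup e) • y, hn0 y hy, ?_⟩
  rw [smul_smul, ← pow_add]

section Valuation

variable {t : R}

theorem rPow_surjective_mod (r : ℕ) (a : AdicRing.RPow R (Ideal.span {t}) r) :
    ∃ (p : MvPolynomial (Fin r) R) (w : AdicRing.RPow R (Ideal.span {t}) r),
      a = algebraMap (MvPolynomial (Fin r) R) _ p + algebraMap R _ t * w := by
  obtain ⟨p, hp⟩ := AdicRingLib.exists_sub_of_mem t r a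
  obtain ⟨w, hw⟩ := Ideal.mem_span_singleton.1 (((Ideal.map_span _ _).trans (congrArg Ideal.span Set.image_singleton)).le hp)
  exact ⟨p, w, by rw [AdicCompletion.algebraMap_apply, ← hw]; simp⟩

theorem flat_of_torsionFree [IsDomain R] [ValuationRing R] [Ring.KrullDimLE 1 R] [IsAdicComplete (Ideal.span {t}) R]
    {M : Type u} [AddCommGroup M] [Module R M] (h : ∀ x : M, t • x = 0 → x = 0) : Module.Flat R M := by
  refine Module.Flat.flat_iff_torsion_eq_bot_of_isBezout.2 ((Submodule.eq_bot_iff _).2 ?_)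
  rintro z ⟨⟨a, ha⟩, haz⟩
  obtain ⟨k, c, hc⟩ := AdicRingLib.exists_pow_dvd_of_mem_maximalIdeal (nonZeroDivisors.ne_zero ha)
    (AdicRingLib.mem_maximalIdeal t)
  have hk : t ^ k • z = 0 := by rw [hc, mul_comm, mul_smul, show a • z = 0 from haz, smul_zero]
  clear hc
  induction k with
  | zero => simpa using hk
  | succ k ih => exact ih (h _ (by rw [smul_smul, ← pow_succ']; exact hk))

/-- Transfer of finiteness along a surjection from a polynomial ring over `R/t`. -/
theorem exists_generators_mod [IsDomain R] [ValuationRing R] [Ring.KrullDimLE 1 R] [IsAdicComplete (Ideal.span {t}) R]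
    (ht : t ≠ 0) {τ' : Type} [Finite τ'] {P : Type u} [CommRing P] [Algebra R P]
    (qS : MvPolynomial τ' (R ⧸ Ideal.span {t}) →+* P ⧸ Ideal.span {algebraMap R P t}) (hqsurj : Function.Surjective qS)
    (hqR : ∀ (a : R) (v : MvPolynomial τ' (R ⧸ Ideal.span {t})), qS (a • v) = a • qS v)
    (n : ℕ) (N : Submodule P (Fin n → P)) (hN : ∀ x, t • x ∈ N → x ∈ N) :
    ∃ s : Finset (Fin n → P), (s : Set (Fin n → P)) ⊆ N ∧
      ∀ x ∈ N, ∃ y ∈ Submodule.span P (s : Set (Fin n → P)), ∃ w, x = y + algebraMap R P t • w := by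
  classical
  let S := R ⧸ Ideal.span {t}
  haveI : Nontrivial S := Ideal.Quotient.nontrivial_iff.2 fun h =>
    (IsLocalRing.mem_maximalIdeal _).1 (AdicRingLib.mem_maximalIdeal t) (Ideal.span_singleton_eq_top.1 h)
  haveI : IsLocalRing S := IsLocalRing.of_surjective' (Ideal.Quotient.mk _) Ideal.Quotient.mk_surjective
  have hS : IsLocalRing.maximalIdeal S ≤ nilradical S := fun x hx => by
    obtain ⟨a, rfl⟩ := Ideal.Quotient.mk_surjective x
    have ha : a ∈ IsLocalRing.maximalIdeal R := fun hu => hx (hu.map _)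
    obtain ⟨k, c, hc⟩ := AdicRingLib.exists_pow_dvd_of_mem_maximalIdeal ht ha
    exact mem_nilradical.2 ⟨k, by rw [← map_pow, Ideal.Quotient.eq_zero_iff_dvd, hc]; exact dvd_mul_right t c⟩
  let tP : P := algebraMap R P t
  let Q0 := P ⧸ Ideal.span {tP}
  let π : (Fin n → P) →ₗ[R] (Fin n → Q0) :=
    LinearMap.pi fun i => (Ideal.Quotient.mkₐ R _).toLinearMap.comp (LinearMap.proj i)
  let Nb : Submodule R (Fin n → Q0) := (N.restrictScalars R).map π
  let K0 : Submodule (MvPolynomial τ' S) (Fin n → MvPolynomial τ' S) :=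
    { carrier := {v | (fun i => qS (v i)) ∈ Nb}
      add_mem' := fun {a b} ha hb => by
        show (fun i => qS (a i + b i)) ∈ Nb
        simp only [map_add]
        exact Nb.add_mem ha hb
      zero_mem' := by
        show (fun i => qS 0) ∈ Nb
        simp only [map_zero]
        exact Nb.zero_mem
      smul_mem' := fun q v ⟨x, hx, hxv⟩ => by
        obtain ⟨q', hq'⟩ := Ideal.Quotient.mk_surjective (qS q)
        refine ⟨q' • x, N.smul_mem q' hx, funext fun i => ?_⟩
        show Ideal.Quotient.mk _ (q' * x i) = qS (q * v i)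
        rw [map_mul, map_mul, hq', ← congrFun hxv i]
        rfl }
  let G1 : (Fin n → MvPolynomial τ' S) →ₗ[R] (Fin n → Q0) ⧸ Nb := Nb.mkQ.comp (σ₁₂ := RingHom.id R)
    { toFun := fun v i => qS (v i)
      map_add' := fun a b => funext fun i => map_add _ _ _
      map_smul' := fun (a : R) v => funext fun i => by exact hqR a (v i) }
  have hG1 : Function.Surjective G1 := Nb.mkQ_surjective.comp fun x => by
    choose v hv using fun i => hqsurj (x i)
    exact ⟨v, funext hv⟩
  have hkerG1 : LinearMap.ker G1 = K0.restrictScalars R := Submodule.ext fun v => Submodule.Quotient.mk_eq_zero Nb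
  have hπsurj : Function.Surjective π := fun x => by
    choose v hv using fun i => Ideal.Quotient.mk_surjective (x i)
    exact ⟨v, funext hv⟩
  let G2 : ((Fin n → P) ⧸ N) →ₗ[R] (Fin n → Q0) ⧸ Nb :=
    Submodule.liftQ (N.restrictScalars R) (Nb.mkQ.comp π) (fun x hx => (Submodule.Quotient.mk_eq_zero Nb).2 ⟨x, hx, rfl⟩)
  have hG2 : Function.Surjective G2 := fun z => by
    obtain ⟨x, rfl⟩ := (Nb.mkQ_surjective.comp hπsurj) z
    exact ⟨Submodule.Quotient.mk x, rfl⟩
  have hkerG2 : LinearMap.ker G2 = Ideal.span {t} • ⊤ := by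
    refine le_antisymm (fun z hz => ?_) ?_
    · obtain ⟨x, rfl⟩ := N.mkQ_surjective z
      obtain ⟨y, hy, hyx⟩ := (Submodule.Quotient.mk_eq_zero Nb).1 hz
      have hdvd : ∀ i, ∃ w, x i - y i = tP * w := fun i =>
        Ideal.mem_span_singleton.1 (Ideal.Quotient.eq.1 (congrFun hyx i).symm)
      choose w hw using hdvd
      have hxy : x - t • w = y := funext fun i => by
        rw [Pi.sub_apply, Pi.smul_apply, Algebra.smul_def, show algebraMap R P t * w i = x i - y i from (hw i).symm,
          sub_sub_cancel]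
      rw [show N.mkQ x = t • N.mkQ w by
        rw [Submodule.mkQ_apply, Submodule.mkQ_apply, ← Submodule.Quotient.mk_smul, Submodule.Quotient.eq, hxy]
        exact hy]
      exact Submodule.smul_mem_smul (Ideal.mem_span_singleton_self t) trivial
    · refine Submodule.smul_le.2 fun a ha z _ => ?_
      obtain ⟨c, rfl⟩ := Ideal.mem_span_singleton.1 ha
      obtain ⟨x, rfl⟩ := N.mkQ_surjective z
      refine (Submodule.Quotient.mk_eq_zero Nb).2 ⟨0, N.zero_mem, funext fun i => ?_⟩
      show Ideal.Quotient.mk (Ideal.span {tP}) 0 = Ideal.Quotient.mk (Ideal.span {tP}) ((t * c) • x i)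
      rw [map_zero, eq_comm, Ideal.Quotient.eq_zero_iff_dvd, mul_smul, Algebra.smul_def]
      exact dvd_mul_right _ _
  haveI : Module.Flat R ((Fin n → P) ⧸ N) := flat_of_torsionFree fun z hz => by
    obtain ⟨x, rfl⟩ := N.mkQ_surjective z
    rw [Submodule.mkQ_apply, ← Submodule.Quotient.mk_smul, Submodule.Quotient.mk_eq_zero] at hz
    exact (Submodule.Quotient.mk_eq_zero N).2 (hN x hz)
  haveI : Module.Flat S ((Fin n → MvPolynomial τ' S) ⧸ K0) := by
    let e : S ⊗[R] ((Fin n → P) ⧸ N) ≃ₗ[R] ((Fin n → MvPolynomial τ' S) ⧸ K0) :=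
      TensorProduct.quotTensorEquivQuotSMul _ (Ideal.span {t}) ≪≫ₗ Submodule.quotEquivOfEq _ _ hkerG2.symm ≪≫ₗ
        G2.quotKerEquivOfSurjective hG2 ≪≫ₗ (G1.quotKerEquivOfSurjective hG1).symm ≪≫ₗ
        Submodule.quotEquivOfEq _ _ hkerG1 ≪≫ₗ (Submodule.Quotient.restrictScalarsEquiv R K0).restrictScalars R
    exact Module.Flat.of_linearEquiv (LinearEquiv.extendScalarsOfSurjective (R := R) (S := S) Ideal.Quotient.mk_surjective e).symm
  obtain ⟨s, hs⟩ := fg_of_flat_quotient hS K0
  choose x hxN hx using fun v : s => (show (v : Fin n → MvPolynomial τ' S) ∈ K0 from hs ▸ Submodule.subset_span v.2 :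
    ∃ x ∈ N, π x = fun i => qS ((v : Fin n → MvPolynomial τ' S) i))
  refine ⟨Finset.univ.image x, by intro y hy; obtain ⟨v, -, rfl⟩ := Finset.mem_image.1 hy; exact hxN v, fun z hz => ?_⟩
  choose v hv using fun i => hqsurj (π z i)
  have hvK : v ∈ K0 := ⟨z, hz, funext fun i => (hv i).symm⟩
  rw [← hs] at hvK
  obtain ⟨c, -, hc⟩ := Submodule.mem_span_finset.1 hvK
  choose c' hc' using fun g : s => Ideal.Quotient.mk_surjective (qS (c g))
  refine ⟨∑ g : s, c' g • x g, sum_mem fun g _ => Submodule.smul_mem _ _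
    (Submodule.subset_span (Finset.mem_image_of_mem x (Finset.mem_univ g))), ?_⟩
  have hdvd : ∀ i, ∃ w, z i - (∑ g : s, c' g • x g) i = tP * w := fun i => by
    refine Ideal.mem_span_singleton.1 (Ideal.Quotient.eq.1 ?_)
    refine (hv i).symm.trans ?_
    rw [← hc, Finset.sum_apply, map_sum, ← Finset.sum_coe_sort, Finset.sum_apply, map_sum]
    refine Finset.sum_congr rfl fun g _ => ?_
    rw [Pi.smul_apply, Pi.smul_apply, smul_eq_mul, smul_eq_mul, map_mul, map_mul, hc']
    congr 1
    exact (congrFun (hx g) i).symm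
  choose w hw using hdvd
  exact ⟨w, funext fun i => by rw [Pi.add_apply, Pi.smul_apply, smul_eq_mul, show algebraMap R P t * w i = tP * w i from rfl, ← hw i, add_sub_cancel]⟩

theorem fgModT_rPow [IsDomain R] [ValuationRing R] [Ring.KrullDimLE 1 R] [IsAdicComplete (Ideal.span {t}) R]
    (ht : t ≠ 0) (r : ℕ) :
    FGModT (AdicRing.RPow R (Ideal.span {t}) r) (algebraMap R _ t) := by
  intro τ _ n N hN
  let A := AdicRing.RPow R (Ideal.span {t}) r
  let P := MvPolynomial τ A
  let tP : P := algebraMap R P t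
  let S := R ⧸ Ideal.span {t}
  let Q0 := P ⧸ Ideal.span {tP}
  let f0 : MvPolynomial (Fin r ⊕ τ) R →ₐ[R] Q0 := aeval (Sum.elim
    (fun i => Ideal.Quotient.mk _ (C (algebraMap (MvPolynomial (Fin r) R) A (X i))))
    (fun j => Ideal.Quotient.mk _ (X j)))
  let qS : MvPolynomial (Fin r ⊕ τ) S →+* Q0 :=
    eval₂Hom (Ideal.Quotient.lift (Ideal.span {t}) (algebraMap R Q0) fun a ha => by
      obtain ⟨c, rfl⟩ := Ideal.mem_span_singleton.1 ha
      rw [IsScalarTower.algebraMap_apply R P Q0, Ideal.Quotient.algebraMap_eq, Ideal.Quotient.eq_zero_iff_dvd, map_mul]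
      exact dvd_mul_right _ _) (Sum.elim
    (fun i => Ideal.Quotient.mk _ (C (algebraMap (MvPolynomial (Fin r) R) A (X i))))
    (fun j => Ideal.Quotient.mk _ (X j)))
  have hqS : ∀ p : MvPolynomial (Fin r ⊕ τ) R, qS (MvPolynomial.map (Ideal.Quotient.mk _) p) = f0 p := fun p => by
    show eval₂Hom _ _ (MvPolynomial.map _ p) = _
    rw [eval₂Hom_map_hom]
    rfl
  have hf0 : Function.Surjective f0 := by
    intro x
    obtain ⟨x, rfl⟩ := Ideal.Quotient.mk_surjective x
    induction x using MvPolynomial.induction_on with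
    | C a =>
      obtain ⟨p, w, rfl⟩ := rPow_surjective_mod r a
      refine ⟨rename Sum.inl p, ?_⟩
      have h1 : f0.comp (rename Sum.inl) = ((Ideal.Quotient.mkₐ R (Ideal.span {tP})).comp
          (IsScalarTower.toAlgHom R A P)).comp (IsScalarTower.toAlgHom R (MvPolynomial (Fin r) R) A) :=
        MvPolynomial.algHom_ext fun i => by simp [f0]; rfl
      refine (AlgHom.congr_fun h1 p).trans (Eq.symm ?_)
      rw [map_add, map_mul, map_add, map_mul,
        Ideal.Quotient.eq_zero_iff_mem.2 (show C (algebraMap R A t) ∈ Ideal.span {tP} from Ideal.mem_span_singleton_self _), zero_mul, add_zero]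
      rfl
    | add p q hp hq =>
      obtain ⟨a, ha⟩ := hp
      obtain ⟨b, hb⟩ := hq
      exact ⟨a + b, by rw [map_add, ha, hb, map_add]⟩
    | mul_X p j hp =>
      obtain ⟨a, ha⟩ := hp
      exact ⟨a * X (Sum.inr j), by rw [map_mul, ha, map_mul]; simp [f0]⟩
  have hqsurj : Function.Surjective qS := fun x => by
    obtain ⟨p, rfl⟩ := hf0 x
    exact ⟨_, hqS p⟩
  have hqR : ∀ (a : R) (v : MvPolynomial (Fin r ⊕ τ) S), qS (a • v) = a • qS v := fun a v => by
    rw [Algebra.smul_def, map_mul]
    refine Eq.trans ?_ (Algebra.smul_def a (qS v)).symm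
    congr 1
    show eval₂Hom _ _ (C (Ideal.Quotient.mk _ a)) = _
    rw [eval₂Hom_C]
    rfl
  obtain ⟨s, hsN, hs⟩ := exists_generators_mod (P := P) ht qS hqsurj hqR n N fun x hx =>
    hN x (by rwa [algebraMap_smul])
  refine ⟨s, hsN, fun x hx => ?_⟩
  obtain ⟨y, hy, w, hw⟩ := hs x hx
  exact ⟨y, hy, w, by rw [hw, algebraMap_smul, algebraMap_smul]⟩

end Valuation

/-- Polynomial rings over restricted power series are good. -/
theorem good_mvPolynomial (hR : AdicRing.IsBase R I) (r s : ℕ) :
    Good R I (MvPolynomial (Fin s) (AdicRing.RPow R I r)) := by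
  have hI := AdicRingLib.fg_of_isBase hR
  obtain ⟨hc, ⟨hN, -⟩ | ⟨hD, hV, hK, t, ht, rfl⟩⟩ := hR
  · haveI : IsNoetherianRing (AdicRing.RPow R I r) := ResExt.isNoetherianRing_adicCompletion _ (hI.map _)
    exact good_of_isNoetherianRing
  · haveI := hD
    haveI : ValuationRing R := { toPreValuationRing := hV }
    haveI : IsAdicComplete (Ideal.span {algebraMap R (AdicRing.RPow R (Ideal.span {t}) r) t})
        (AdicRing.RPow R (Ideal.span {t}) r) := by
      rw [← Set.image_singleton, ← Ideal.map_span]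
      exact AdicRingLib.isAdicComplete_rPow t r
    have hsat : Sat R (Ideal.span {t}) (MvPolynomial (Fin s) (AdicRing.RPow R (Ideal.span {t}) r)) :=
      sat_of_pi fun n N hN => fg_of_saturated_mvPolynomial (fgModT_rPow ht r) N fun x hx => hN x 1 fun a ha => by
        rw [pow_one, Ideal.mem_span_singleton] at ha
        obtain ⟨c, rfl⟩ := ha
        rw [mul_comm, mul_smul]
        rw [algebraMap_smul] at hx
        exact N.smul_of_tower_mem c hx
    exact ⟨hsat, ar_of_sat hsat⟩

theorem good_of_finiteType (hR : AdicRing.IsBase R I) {A : Type u} [CommRing A] [Algebra R A]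
    (hA : AdicRing.TopFiniteType R I A) (B : Type u) [CommRing B] [Algebra R B] [Algebra A B]
    [IsScalarTower R A B] [Algebra.FiniteType A B] : Good R I B := by
  obtain ⟨r, φ, hφ⟩ := hA
  obtain ⟨s, f, hf⟩ := Algebra.FiniteType.iff_quotient_mvPolynomial''.1 (inferInstance : Algebra.FiniteType A B)
  exact Good.of_surjective ((f.restrictScalars R).comp (MvPolynomial.mapAlgHom φ))
    (hf.comp (MvPolynomial.map_surjective _ hφ)) (good_mvPolynomial hR r s)

theorem good_of_topFiniteType (hR : AdicRing.IsBase R I) {A : Type u} [CommRing A] [Algebra R A]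
    (hA : AdicRing.TopFiniteType R I A) : Good R I A :=
  good_of_finiteType hR hA A

end Groth.Agent.TopFin
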