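/-
Completeness, finite presentation and coherence over algebras topologically of finite type.
-/
import Groth.Agent.TopFin.Sat
import Groth.Agent.AdicRingLib.Surj

set_option autoImplicit false
set_option linter.style.haveILetI false
set_option backward.isDefEq.respectTransparency false

universe u v

open scoped TensorProduct

noncomputable section

namespace Groth.Agent.TopFin

variable {R : Type u} [CommRing R] {I : Ideal R}

theorem noPowTorsion_of_flat (hI : I.FG) (hT : AdicRing.NoPowTorsion I R) (M : Type v) [AddCommGroup M] [Module R M]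
    [Module.Flat R M] : AdicRing.NoPowTorsion I M := by
  classical
  intro x k hx
  obtain ⟨N, a, ha⟩ := Submodule.fg_iff_exists_fin_generating_family.1 (hI.pow (n := k))
  let f : R →ₗ[R] (Fin N → R) := LinearMap.pi fun j => LinearMap.lsmul R R (a j)
  have hf : Function.Injective f := (injective_iff_map_eq_zero f).2 fun r hr => hT r k fun b hb => by
    rw [← ha] at hb
    obtain ⟨c, rfl⟩ := (Submodule.mem_span_range_iff_exists_fun _).1 hb
    rw [Finset.sum_smul]
    refine Finset.sum_eq_zero fun j _ => ?_
    rw [smul_assoc, show a j • r = 0 from congrFun hr j, smul_zero]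
  have h1 : f.lTensor M (x ⊗ₜ[R] (1 : R)) = 0 := by
    rw [LinearMap.lTensor_tmul]
    refine (TensorProduct.piScalarRight R R M (Fin N)).injective (funext fun j => ?_)
    rw [map_zero, TensorProduct.piScalarRight_apply, TensorProduct.piScalarRightHom_tmul]
    show (a j • (1 : R)) • x = 0
    rw [smul_eq_mul, mul_one]
    exact hx _ (ha ▸ Submodule.subset_span ⟨j, rfl⟩)
  have h2 := Module.Flat.lTensor_preserves_injective_linearMap (M := M) f hf (h1.trans (map_zero _).symm)
  simpa using congrArg (TensorProduct.rid R M) h2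

theorem noPowTorsion_base (hR : AdicRing.IsBase R I) : AdicRing.NoPowTorsion I R := by
  obtain ⟨-, ⟨-, h⟩ | ⟨hD, -, -, t, ht, rfl⟩⟩ := hR
  · exact h
  · intro x n hx
    haveI := hD
    exact (mul_eq_zero.1 (hx (t ^ n) (Ideal.pow_mem_pow (Ideal.mem_span_singleton_self t) n))).resolve_left
      (pow_ne_zero _ ht)

theorem noPowTorsion_rPow (hR : AdicRing.IsBase R I) (r : ℕ) : AdicRing.NoPowTorsion I (AdicRing.RPow R I r) := by
  haveI := AdicRingLib.flat_rPow_of_isBase R I hR r
  exact noPowTorsion_of_flat (AdicRingLib.fg_of_isBase hR) (noPowTorsion_base hR) _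

theorem isAdicComplete_rPow (hI : I.FG) (r : ℕ) :
    IsAdicComplete (I.map (algebraMap R (AdicRing.RPow R I r))) (AdicRing.RPow R I r) := by
  let P := MvPolynomial (Fin r) R
  let J : Ideal P := I.map (MvPolynomial.C : R →+* P)
  have h1 := AdicCompletion.isAdicComplete (I := J) (M := P) (Ideal.FG.map hI _)
  have h2 := (IsAdicComplete.map_algebraMap_iff (I := J) (M := AdicCompletion J P)
    (S := AdicCompletion J P)).2 h1
  rw [Ideal.map_map] at h2
  exact h2

theorem le_jacobson (hI : I.FG) {A : Type u} [CommRing A] [Algebra R A] (hA : AdicRing.TopFiniteType R I A) :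
    I.map (algebraMap R A) ≤ Ideal.jacobson (⊥ : Ideal A) := by
  obtain ⟨r, φ, hφ⟩ := hA
  haveI := isAdicComplete_rPow hI r
  refine Ideal.map_le_iff_le_comap.2 fun a ha => ?_
  rw [Ideal.mem_comap, Ideal.mem_jacobson_bot]
  intro y
  obtain ⟨z, rfl⟩ := hφ y
  have := Ideal.mem_jacobson_bot.1 (IsAdicComplete.le_jacobson_bot (I.map (algebraMap R (AdicRing.RPow R I r)))
    (Ideal.mem_map_of_mem _ ha)) z
  simpa using this.map φ

/-- Finite modules are separated. -/
theorem isHausdorff_of_ar {B : Type u} [CommRing B] [Algebra R B] (h : AR R I B)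
    (hjac : I.map (algebraMap R B) ≤ Ideal.jacobson (⊥ : Ideal B)) (M : Type u) [AddCommGroup M] [Module B M]
    [Module R M] [IsScalarTower R B M] [Module.Finite B M] : IsHausdorff I M := by
  refine ⟨fun x hx => ?_⟩
  obtain ⟨n₀, hn₀⟩ := h M (Submodule.span B {x})
  have h1 := hn₀ 1 ⟨SModEq.zero.1 (hx _), Submodule.mem_span_singleton_self x⟩
  rw [pow_one, ← Ideal.smul_restrictScalars, Submodule.restrictScalars_mem, Submodule.mem_smul_span_singleton] at h1
  obtain ⟨b, hb, hbx⟩ := h1
  have hu := Ideal.mem_jacobson_bot.1 (hjac hb) (-1)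
  refine hu.smul_eq_zero.1 ?_
  rw [add_smul, one_smul, mul_neg, mul_one, neg_smul, hbx, neg_add_cancel]

theorem isPrecomplete_of_surjective {S : Type u} [CommRing S] (J : Ideal S) {M N : Type v} [AddCommGroup M]
    [Module S M] [AddCommGroup N] [Module S N] [IsPrecomplete J M] (f : M →ₗ[S] N) (hf : Function.Surjective f) :
    IsPrecomplete J N := by
  refine AdicCompletion.of_surjective_iff.1 fun y => ?_
  obtain ⟨z, rfl⟩ := AdicCompletion.map_surjective J hf y
  obtain ⟨x, rfl⟩ := AdicCompletion.of_surjective_iff.2 inferInstance z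
  exact ⟨f x, (AdicCompletion.map_of J f x).symm⟩

theorem isPrecomplete_of_topFiniteType (hI : I.FG) {A : Type u} [CommRing A] [Algebra R A]
    (hA : AdicRing.TopFiniteType R I A) (M : Type u) [AddCommGroup M] [Module A M] [Module R M]
    [IsScalarTower R A M] [Module.Finite A M] : IsPrecomplete I M := by
  obtain ⟨r, φ, hφ⟩ := hA
  let P := AdicRing.RPow R I r
  haveI := isAdicComplete_rPow hI r
  letI : Module P M := Module.compHom M φ.toRingHom
  haveI : IsScalarTower R P M := ⟨fun a p x => by
    show φ (a • p) • x = a • (φ p • x)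
    rw [map_smul, smul_assoc]⟩
  obtain ⟨n, f, hf⟩ := Module.Finite.exists_fin' A M
  let g : (Fin n → P) →ₗ[P] M :=
    { toFun := fun v => f fun i => φ (v i)
      map_add' := fun a b => by rw [← map_add]; exact congrArg f (funext fun i => map_add φ _ _)
      map_smul' := fun p v => by
        show f (fun i => φ (p * v i)) = φ p • f _
        rw [← map_smul]
        exact congrArg f (funext fun i => map_mul φ _ _) }
  have hg : Function.Surjective g := fun y => by
    obtain ⟨v, rfl⟩ := hf y
    choose w hw using fun i => hφ (v i)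
    exact ⟨w, congrArg f (funext hw)⟩
  haveI : IsAdicComplete (I.map (algebraMap R P)) (Fin n → P) :=
    AdicRingLib.isAdicComplete_of_equiv_pi _ (LinearEquiv.refl P (Fin n → P))
  haveI := isPrecomplete_of_surjective (I.map (algebraMap R P)) g hg
  exact (IsPrecomplete.map_algebraMap_iff (I := I) (M := M) (S := P)).1 inferInstance

theorem isAdicComplete_finite (hR : AdicRing.IsBase R I) {A : Type u} [CommRing A] [Algebra R A]
    (hA : AdicRing.TopFiniteType R I A) (M : Type u) [AddCommGroup M] [Module A M] [Module R M]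
    [IsScalarTower R A M] [Module.Finite A M] : IsAdicComplete I M where
  toIsHausdorff := isHausdorff_of_ar (good_of_topFiniteType hR hA).2 (le_jacobson (AdicRingLib.fg_of_isBase hR) hA) M
  toIsPrecomplete := isPrecomplete_of_topFiniteType (AdicRingLib.fg_of_isBase hR) hA M

theorem isAdicComplete_self (hR : AdicRing.IsBase R I) {A : Type u} [CommRing A] [Algebra R A]
    (hA : AdicRing.TopFiniteType R I A) : IsAdicComplete (I.map (algebraMap R A)) A :=
  haveI := isAdicComplete_finite hR hA A
  (IsAdicComplete.map_algebraMap_iff (I := I) (M := A) (S := A)).2 inferInstance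

/-- Finite modules without torsion are finitely presented. -/
theorem finitePresentation_of_noPowTorsion {B : Type u} [CommRing B] [Algebra R B] (h : Sat R I B)
    (M : Type u) [AddCommGroup M] [Module B M] [Module R M] [IsScalarTower R B M] [Module.Finite B M]
    (hT : AdicRing.NoPowTorsion I M) : Module.FinitePresentation B M := by
  obtain ⟨n, f, hf⟩ := Module.Finite.exists_fin' B M
  refine Module.finitePresentation_of_surjective f hf (h (Fin n → B) (LinearMap.ker f) fun x k hx => ?_)
  refine LinearMap.mem_ker.2 (hT (f x) k fun a ha => ?_)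
  rw [← LinearMap.map_smul_of_tower]
  exact hx a ha

theorem topFinitePresentation_of_noPowTorsion (hR : AdicRing.IsBase R I) {A : Type u} [CommRing A] [Algebra R A]
    (hA : AdicRing.TopFiniteType R I A) (hT : AdicRing.NoPowTorsion I A) : AdicRing.TopFinitePresentation R I A := by
  obtain ⟨r, φ, hφ⟩ := hA
  refine ⟨r, φ, hφ, (good_of_topFiniteType hR ⟨r, AlgHom.id R _, Function.surjective_id⟩).1 _ _ fun x k hx => ?_⟩
  refine RingHom.mem_ker.2 (hT (φ x) k fun a ha => ?_)
  rw [← map_smul]
  exact hx a ha

theorem TopFinitePresentation.topFiniteType {A : Type u} [CommRing A] [Algebra R A]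
    (hA : AdicRing.TopFinitePresentation R I A) : AdicRing.TopFiniteType R I A :=
  hA.imp fun _ h => h.imp fun _ h => h.1

theorem coherent (hR : AdicRing.IsBase R I) {A : Type u} [CommRing A] [Algebra R A]
    (hA : AdicRing.TopFinitePresentation R I A) (J : Ideal A) (hJ : J.FG) : Module.FinitePresentation A J := by
  classical
  obtain ⟨r, φ, hφ, hker⟩ := hA
  obtain ⟨m, a, ha⟩ := Submodule.fg_iff_exists_fin_generating_family.1 hker
  obtain ⟨n, g, hg⟩ := Submodule.fg_iff_exists_fin_generating_family.1 hJ
  choose g' hg' using fun i => hφ (g i)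
  let P := AdicRing.RPow R I r
  let Ψ : (Fin n ⊕ Fin m → P) →ₗ[P] P := Fintype.linearCombination P (Sum.elim g' a)
  obtain ⟨s, hs⟩ := (good_of_topFiniteType hR ⟨r, AlgHom.id R _, Function.surjective_id⟩).1 (Fin n ⊕ Fin m → P)
    (LinearMap.ker Ψ) fun x k hx => LinearMap.mem_ker.2 (noPowTorsion_rPow hR r (Ψ x) k fun b hb => by
      rw [← LinearMap.map_smul_of_tower]
      exact hx b hb)
  let ψ : (Fin n → A) →ₗ[A] A := Fintype.linearCombination A g
  have hrange : LinearMap.range ψ = J := by rw [Fintype.range_linearCombination, hg]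
  let ψ' : (Fin n → A) →ₗ[A] J := ψ.codRestrict J fun v => hrange ▸ LinearMap.mem_range_self ψ v
  have hψ' : Function.Surjective ψ' := fun y => by
    obtain ⟨v, hv⟩ := LinearMap.mem_range.1 (hrange.symm ▸ y.2 : (y : A) ∈ LinearMap.range ψ)
    exact ⟨v, Subtype.ext hv⟩
  refine Module.finitePresentation_of_surjective ψ' hψ' ?_
  let pr : (Fin n ⊕ Fin m → P) → (Fin n → A) := fun v i => φ (v (Sum.inl i))
  have hφa : ∀ j, φ (a j) = 0 := fun j =>
    RingHom.mem_ker.1 (show a j ∈ RingHom.ker φ.toRingHom from ha ▸ Submodule.subset_span ⟨j, rfl⟩)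
  have hΨ : ∀ v, φ (Ψ v) = ψ (pr v) := fun v => by
    simp [Ψ, ψ, pr, Fintype.linearCombination_apply, hg', hφa, Fintype.sum_sum_type]
  refine ⟨s.image pr, le_antisymm (Submodule.span_le.2 fun y hy => ?_) fun w hw => ?_⟩
  · obtain ⟨v, hv, rfl⟩ := Finset.mem_image.1 hy
    refine LinearMap.mem_ker.2 (Subtype.ext (?_ : ψ (pr v) = 0))
    rw [← hΨ, show Ψ v = 0 from LinearMap.mem_ker.1 (hs ▸ Submodule.subset_span hv), map_zero]
  · choose w' hw' using fun i => hφ (w i)
    have h0 : ψ w = 0 := congrArg Subtype.val (LinearMap.mem_ker.1 hw)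
    have hΨ0 : Ψ (Sum.elim w' 0) ∈ Submodule.span P (Set.range a) := by
      rw [ha]
      refine RingHom.mem_ker.2 ((hΨ _).trans ?_)
      rw [← h0]
      exact congrArg ψ (funext hw')
    obtain ⟨c, hc⟩ := (Submodule.mem_span_range_iff_exists_fun _).1 hΨ0
    have hv : Sum.elim w' (fun j => -c j) ∈ Submodule.span P (s : Set (Fin n ⊕ Fin m → P)) := by
      rw [hs, LinearMap.mem_ker]
      have h1 : Ψ (Sum.elim w' 0) = ∑ i, w' i • g' i := by
        simp [Ψ, Fintype.linearCombination_apply, Fintype.sum_sum_type]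
      show (Fintype.linearCombination P (Sum.elim g' a)) (Sum.elim w' fun j => -c j) = 0
      rw [Fintype.linearCombination_apply, Fintype.sum_sum_type]
      simp only [Sum.elim_inl, Sum.elim_inr, neg_smul, Finset.sum_neg_distrib]
      rw [hc, h1, add_neg_cancel]
    have hpr : pr (Sum.elim w' fun j => -c j) = w := funext hw'
    rw [← hpr, Finset.coe_image]
    obtain ⟨f, -, hf⟩ := Submodule.mem_span_finset.1 hv
    rw [← hf, show pr (∑ x ∈ s, f x • x) = ∑ x ∈ s, φ (f x) • pr x from funext fun i => by
      simp [pr, Finset.sum_apply]]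
    exact sum_mem fun x hx => Submodule.smul_mem _ _ (Submodule.subset_span (Set.mem_image_of_mem pr hx))

end Groth.Agent.TopFin
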