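/-
Topological finite presentation and truncations.
-/
import Groth.Agent.TopFin.Basics

set_option autoImplicit false
set_option linter.style.haveILetI false
set_option backward.isDefEq.respectTransparency false

universe u

noncomputable section

namespace Groth.Agent.TopFin

variable {R : Type u} [CommRing R] {I : Ideal R}

/-- `R[ζ] → R⟨ζ⟩` as an `R`-algebra map. -/
abbrev ofPoly (R : Type u) [CommRing R] (I : Ideal R) (r : ℕ) : MvPolynomial (Fin r) R →ₐ[R] AdicRing.RPow R I r :=
  IsScalarTower.toAlgHom R (MvPolynomial (Fin r) R) _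

theorem mem_pow_map_iff (hI : I.FG) {r : ℕ} (k : ℕ) (x : AdicRing.RPow R I r) :
    x ∈ (I ^ k).map (algebraMap R (AdicRing.RPow R I r)) ↔
      AdicCompletion.eval (I.map (MvPolynomial.C : R →+* MvPolynomial (Fin r) R)) (MvPolynomial (Fin r) R) k x = 0 := by
  rw [← LinearMap.mem_ker, ← AdicCompletion.pow_smul_top_eq_ker_eval (Ideal.FG.map hI _), Ideal.smul_top_eq_map,
    Submodule.restrictScalars_mem, ← Ideal.map_pow, Ideal.map_map]
  rfl

theorem exists_sub_mem_pow (hI : I.FG) {r : ℕ} (k : ℕ) (x : AdicRing.RPow R I r) :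
    ∃ p, x - ofPoly R I r p ∈ (I ^ k).map (algebraMap R (AdicRing.RPow R I r)) := by
  obtain ⟨p, hp⟩ := Submodule.Quotient.mk_surjective _
    (AdicCompletion.eval (I.map (MvPolynomial.C : R →+* MvPolynomial (Fin r) R)) (MvPolynomial (Fin r) R) k x)
  refine ⟨p, (mem_pow_map_iff hI k _).2 ?_⟩
  rw [map_sub, sub_eq_zero, ← hp]
  simp [ofPoly]
  rfl

theorem ofPoly_mem_pow_iff (hI : I.FG) {r : ℕ} (k : ℕ) (p : MvPolynomial (Fin r) R) :
    ofPoly R I r p ∈ (I ^ k).map (algebraMap R (AdicRing.RPow R I r)) ↔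
      p ∈ (I ^ k).map (MvPolynomial.C : R →+* MvPolynomial (Fin r) R) := by
  rw [mem_pow_map_iff hI k]
  show Submodule.Quotient.mk p = 0 ↔ _
  rw [Submodule.Quotient.mk_eq_zero, smul_eq_mul, Ideal.mul_top, Ideal.map_pow]

/-- `R[ζ] → A/I^k A`. -/
def truncMap {A : Type u} [CommRing A] [Algebra R A] {r : ℕ} (φ : AdicRing.RPow R I r →ₐ[R] A) (k : ℕ) :
    MvPolynomial (Fin r) R →ₐ[R] A ⧸ (I ^ k).map (algebraMap R A) :=
  (Ideal.Quotient.mkₐ R _).comp (φ.comp (ofPoly R I r))

theorem truncMap_surjective (hI : I.FG) {A : Type u} [CommRing A] [Algebra R A] {r : ℕ}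
    {φ : AdicRing.RPow R I r →ₐ[R] A} (hφ : Function.Surjective φ) (k : ℕ) : Function.Surjective (truncMap φ k) := by
  intro z
  obtain ⟨a, rfl⟩ := Ideal.Quotient.mk_surjective z
  obtain ⟨x, rfl⟩ := hφ a
  obtain ⟨p, hp⟩ := exists_sub_mem_pow hI k x
  refine ⟨p, (Ideal.Quotient.eq.2 ?_).symm⟩
  show φ x - φ (ofPoly R I r p) ∈ _
  rw [← map_sub]
  exact AdicRingLib.apply_mem_map φ hp

theorem mem_ker_truncMap {A : Type u} [CommRing A] [Algebra R A] {r : ℕ}
    {φ : AdicRing.RPow R I r →ₐ[R] A} (hφ : Function.Surjective φ) (k : ℕ) (p : MvPolynomial (Fin r) R) :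
    p ∈ RingHom.ker (truncMap φ k).toRingHom ↔
      ∃ i ∈ (I ^ k).map (algebraMap R (AdicRing.RPow R I r)), φ (ofPoly R I r p - i) = 0 := by
  rw [RingHom.mem_ker]
  show Ideal.Quotient.mk _ (φ (ofPoly R I r p)) = 0 ↔ _
  rw [Ideal.Quotient.eq_zero_iff_mem]
  constructor
  · intro h
    have h2 : φ (ofPoly R I r p) ∈ ((I ^ k).map (algebraMap R (AdicRing.RPow R I r))).map φ.toRingHom := by
      rwa [Ideal.map_map, AlgHom.toRingHom_eq_coe, φ.comp_algebraMap]
    obtain ⟨i, hi, hip⟩ := (Ideal.mem_map_iff_of_surjective φ.toRingHom hφ).1 h2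
    exact ⟨i, hi, by rw [map_sub, sub_eq_zero]; exact hip.symm⟩
  · rintro ⟨i, hi, h⟩
    rw [map_sub, sub_eq_zero] at h
    rw [h]
    exact AdicRingLib.apply_mem_map φ hi

theorem finiteType_trunc (hI : I.FG) {A : Type u} [CommRing A] [Algebra R A] (hA : AdicRing.TopFiniteType R I A)
    (k : ℕ) : Algebra.FiniteType R (A ⧸ (I ^ k).map (algebraMap R A)) := by
  obtain ⟨r, φ, hφ⟩ := hA
  exact Algebra.FiniteType.of_surjective (truncMap φ k) (truncMap_surjective hI hφ k)

theorem quotientMap_finiteType_iff {A : Type u} [CommRing A] [Algebra R A] (J : Ideal R) :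
    (Ideal.quotientMap (J.map (algebraMap R A)) (algebraMap R A) Ideal.le_comap_map).FiniteType ↔
      Algebra.FiniteType R (A ⧸ J.map (algebraMap R A)) := by
  have heq : algebraMap R (A ⧸ J.map (algebraMap R A)) =
      (Ideal.quotientMap (J.map (algebraMap R A)) (algebraMap R A) Ideal.le_comap_map).comp (Ideal.Quotient.mk J) := rfl
  rw [← RingHom.finiteType_algebraMap, heq]
  exact ⟨fun h => h.comp (RingHom.FiniteType.of_surjective _ Ideal.Quotient.mk_surjective),
    fun h => RingHom.FiniteType.of_comp_finiteType h⟩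

theorem quotientMap_finitePresentation_iff {A : Type u} [CommRing A] [Algebra R A] {J : Ideal R} (hJ : J.FG) :
    (Ideal.quotientMap (J.map (algebraMap R A)) (algebraMap R A) Ideal.le_comap_map).FinitePresentation ↔
      Algebra.FinitePresentation R (A ⧸ J.map (algebraMap R A)) := by
  have heq : algebraMap R (A ⧸ J.map (algebraMap R A)) =
      (Ideal.quotientMap (J.map (algebraMap R A)) (algebraMap R A) Ideal.le_comap_map).comp (Ideal.Quotient.mk J) := rfl
  rw [← RingHom.finitePresentation_algebraMap, heq]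
  refine ⟨fun h => h.comp (RingHom.FinitePresentation.of_surjective _ Ideal.Quotient.mk_surjective
    (by rw [Ideal.mk_ker]; exact hJ)), fun h => ?_⟩
  exact RingHom.FinitePresentation.of_comp_finiteType _ h
    (RingHom.FiniteType.of_surjective _ Ideal.Quotient.mk_surjective)

theorem topFiniteType_of_finiteType (hI : I.FG) {A : Type u} [CommRing A] [Algebra R A]
    [IsAdicComplete (I.map (algebraMap R A)) A] (h : Algebra.FiniteType R (A ⧸ I.map (algebraMap R A))) :
    AdicRing.TopFiniteType R I A :=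
  AdicRingLib.exists_surjective_rPow R I hI A ((quotientMap_finiteType_iff I).2 h)

theorem topFiniteType_iff (hI : I.FG) {A : Type u} [CommRing A] [Algebra R A]
    [IsAdicComplete (I.map (algebraMap R A)) A] :
    AdicRing.TopFiniteType R I A ↔ Algebra.FiniteType R (A ⧸ I.map (algebraMap R A)) := by
  refine ⟨fun h => ?_, topFiniteType_of_finiteType hI⟩
  have h1 := finiteType_trunc hI h 1
  rwa [pow_one] at h1

theorem finitePresentation_trunc (hI : I.FG) {A : Type u} [CommRing A] [Algebra R A]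
    (hA : AdicRing.TopFinitePresentation R I A) (k : ℕ) :
    Algebra.FinitePresentation R (A ⧸ (I ^ k).map (algebraMap R A)) := by
  obtain ⟨r, φ, hφ, hker⟩ := hA
  obtain ⟨m, a, ha⟩ := Submodule.fg_iff_exists_fin_generating_family.1 hker
  choose q hq using fun l => exists_sub_mem_pow hI k (a l)
  refine Algebra.FinitePresentation.of_surjective (f := truncMap φ k) (truncMap_surjective hI hφ k) ?_
  have e : RingHom.ker (truncMap φ k).toRingHom =
      Ideal.span (Set.range q) ⊔ (I ^ k).map (MvPolynomial.C : R →+* MvPolynomial (Fin r) R) := by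
    refine le_antisymm (fun p hp => ?_) (sup_le (Ideal.span_le.2 ?_) fun p hp => ?_)
    · obtain ⟨i, hi, h⟩ := (mem_ker_truncMap hφ k p).1 hp
      have h' : ofPoly R I r p - i ∈ Submodule.span (AdicRing.RPow R I r) (Set.range a) := by rw [ha]; exact RingHom.mem_ker.2 h
      obtain ⟨c, hc⟩ := (Submodule.mem_span_range_iff_exists_fun _).1 h'
      choose c' hc' using fun l => exists_sub_mem_pow hI k (c l)
      rw [Submodule.mem_sup]
      refine ⟨∑ l, c' l • q l, sum_mem fun l _ => Submodule.smul_mem _ _ (Ideal.subset_span ⟨l, rfl⟩),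
        p - ∑ l, c' l • q l, (ofPoly_mem_pow_iff hI k _).1 ?_, by ring⟩
      rw [map_sub, show ofPoly R I r p - ofPoly R I r (∑ l, c' l • q l) =
        i + ∑ l, ((c l - ofPoly R I r (c' l)) * a l + ofPoly R I r (c' l) * (a l - ofPoly R I r (q l))) by
        rw [map_sum, show ofPoly R I r p = i + ∑ l, c l • a l by rw [hc]; ring, add_sub_assoc, ← Finset.sum_sub_distrib]
        refine congrArg _ (Finset.sum_congr rfl fun l _ => ?_)
        rw [smul_eq_mul, smul_eq_mul, map_mul]; ring]
      exact add_mem hi (sum_mem fun l _ => add_mem (Ideal.mul_mem_right _ _ (hc' l)) (Ideal.mul_mem_left _ _ (hq l)))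
    · rintro _ ⟨l, rfl⟩
      refine (mem_ker_truncMap hφ k _).2 ⟨ofPoly R I r (q l) - a l, ?_, ?_⟩
      · rw [← neg_sub]; exact (Ideal.neg_mem_iff _).2 (hq l)
      · rw [sub_sub_cancel]
        exact RingHom.mem_ker.1 (show a l ∈ RingHom.ker φ.toRingHom from ha ▸ Submodule.subset_span ⟨l, rfl⟩)
    · exact (mem_ker_truncMap hφ k p).2 ⟨_, (ofPoly_mem_pow_iff hI k p).2 hp, by rw [sub_self, map_zero]⟩
  show (RingHom.ker (truncMap φ k).toRingHom).FG
  rw [e]
  exact (Submodule.fg_span (Set.finite_range q)).sup (Ideal.FG.map (hI.pow (n := k)) _)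

theorem topFinitePresentation_of_trunc (hR : AdicRing.IsBase R I) {A : Type u} [CommRing A] [Algebra R A]
    [IsAdicComplete (I.map (algebraMap R A)) A]
    (h : ∀ n : ℕ, Algebra.FinitePresentation R (A ⧸ (I ^ (n + 1)).map (algebraMap R A))) :
    AdicRing.TopFinitePresentation R I A := by
  have hI := AdicRingLib.fg_of_isBase hR
  have hft : Algebra.FiniteType R (A ⧸ I.map (algebraMap R A)) := by
    have h0 := h 0
    rw [zero_add, pow_one] at h0
    infer_instance
  obtain ⟨r, φ, hφ⟩ := topFiniteType_of_finiteType hI hft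
  let P := AdicRing.RPow R I r
  have hP : AdicRing.TopFiniteType R I P := ⟨r, AlgHom.id R _, Function.surjective_id⟩
  obtain ⟨n₀, hn₀⟩ := (good_of_topFiniteType hR hP).2 P (RingHom.ker φ.toRingHom)
  haveI := h n₀
  obtain ⟨m, p, hp⟩ := Submodule.fg_iff_exists_fin_generating_family.1
    (Algebra.FinitePresentation.ker_fG_of_surjective (truncMap φ (n₀ + 1)) (truncMap_surjective hI hφ _))
  choose i hi hia using fun j => (mem_ker_truncMap hφ (n₀ + 1) (p j)).1
    (show p j ∈ RingHom.ker (truncMap φ (n₀ + 1)).toRingHom from hp ▸ Submodule.subset_span ⟨j, rfl⟩)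
  let a := fun j => ofPoly R I r (p j) - i j
  let K : Ideal P := Ideal.span (Set.range a)
  have hKle : K ≤ RingHom.ker φ.toRingHom := Ideal.span_le.2 (by rintro _ ⟨j, rfl⟩; exact RingHom.mem_ker.2 (hia j))
  have hstep : ∀ x ∈ RingHom.ker φ.toRingHom,
      x ∈ K.restrictScalars R ⊔ I • (RingHom.ker φ.toRingHom).restrictScalars R := by
    intro x hx
    obtain ⟨q, hq⟩ := exists_sub_mem_pow hI (n₀ + 1) x
    have hqk : q ∈ RingHom.ker (truncMap φ (n₀ + 1)).toRingHom :=
      (mem_ker_truncMap hφ _ q).2 ⟨ofPoly R I r q - x, by rw [← neg_sub]; exact (Ideal.neg_mem_iff _).2 hq, by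
        rw [sub_sub_cancel]; exact RingHom.mem_ker.1 hx⟩
    rw [← hp] at hqk
    obtain ⟨c, hc⟩ := (Submodule.mem_span_range_iff_exists_fun _).1 hqk
    have hK : ∑ j, ofPoly R I r (c j) • a j ∈ K :=
      sum_mem fun j _ => Submodule.smul_mem _ _ (Ideal.subset_span ⟨j, rfl⟩)
    refine Submodule.mem_sup.2 ⟨_, hK, x - ∑ j, ofPoly R I r (c j) • a j, ?_, by ring⟩
    suffices h1 : x - ∑ j, ofPoly R I r (c j) • a j ∈ (I ^ 1) • (RingHom.ker φ.toRingHom).restrictScalars R by
      simpa only [pow_one] using h1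
    refine hn₀ 1 ⟨?_, sub_mem hx (hKle hK)⟩
    rw [SetLike.mem_coe, Ideal.smul_top_eq_map, Submodule.restrictScalars_mem, add_comm 1 n₀,
      show x - ∑ j, ofPoly R I r (c j) • a j = (x - ofPoly R I r q) + ∑ j, ofPoly R I r (c j) * i j by
        rw [← hc, map_sum]
        simp only [a, smul_eq_mul, map_mul, mul_sub, Finset.sum_sub_distrib]
        ring]
    exact add_mem hq (sum_mem fun j _ => Ideal.mul_mem_left _ _ (hi j))
  refine ⟨r, φ, hφ, Submodule.fg_def.2 ⟨_, Set.finite_range a, le_antisymm hKle fun x hx => ?_⟩⟩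
  haveI : Module.Finite P (P ⧸ K) := inferInstance
  haveI : IsHausdorff I (P ⧸ K) := isHausdorff_of_ar (good_of_topFiniteType hR hP).2 (le_jacobson hI hP) _
  refine (Submodule.Quotient.mk_eq_zero K).1 (IsHausdorff.haus (I := I) inferInstance _ fun m => SModEq.zero.2 ?_)
  suffices h : ((RingHom.ker φ.toRingHom).restrictScalars R).map (K.mkQ.restrictScalars R) ≤ I ^ m • ⊤ from
    h ⟨x, hx, rfl⟩
  induction m with
  | zero => rw [pow_zero, Ideal.one_eq_top, Submodule.top_smul]; exact le_top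
  | succ m ih =>
    rintro _ ⟨y, hy, rfl⟩
    obtain ⟨k, hk, w, hw, rfl⟩ := Submodule.mem_sup.1 (hstep y hy)
    rw [map_add, show K.mkQ.restrictScalars R k = 0 from (Submodule.Quotient.mk_eq_zero K).2 hk, zero_add,
      pow_succ', Submodule.mul_smul]
    have h1 := Submodule.mem_map_of_mem (f := K.mkQ.restrictScalars R) hw
    rw [Submodule.map_smul''] at h1
    exact Submodule.smul_mono le_rfl ih h1

end Groth.Agent.TopFin
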