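/-
Flatness of finite modules via truncations.
-/
import Groth.Agent.TopFin.Basics

set_option autoImplicit false
set_option linter.style.haveILetI false
set_option backward.isDefEq.respectTransparency false

universe u

open scoped TensorProduct

noncomputable section

namespace Groth.Agent.TopFin

variable {R : Type u} [CommRing R] {I : Ideal R}

theorem subtype_mem_smul_top {A : Type u} [CommRing A] [Algebra R A] (J : Ideal A) (L : Ideal R) {j : A}
    (hjL : j ∈ L • J.restrictScalars R) (hj : j ∈ J) : (⟨j, hj⟩ : J) ∈ L • (⊤ : Submodule R J) := by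
  let f : J →ₗ[R] A := J.subtype.restrictScalars R
  have hf : LinearMap.range f = J.restrictScalars R := Submodule.ext fun x =>
    ⟨by rintro ⟨y, rfl⟩; exact y.2, fun hx => ⟨⟨x, hx⟩, rfl⟩⟩
  rw [← hf, LinearMap.range_eq_map, ← Submodule.map_smul''] at hjL
  obtain ⟨y, hy, hyj⟩ := hjL
  rwa [show (⟨j, hj⟩ : J) = y from Subtype.ext hyj.symm]

theorem rTensor_subtype_injective_of_flat_baseChange {A : Type u} [CommRing A] (A' : Type u) [CommRing A'] [Algebra A A']
    (M : Type u) [AddCommGroup M] [Module A M] [Module.Flat A' (A' ⊗[A] M)] (Q : Ideal A') :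
    Function.Injective ((Q.subtype.restrictScalars A).lTensor M) := by
  rw [LinearMap.lTensor_inj_iff_rTensor_inj]
  let e1 := TensorProduct.AlgebraTensorModule.cancelBaseChange A A' A' Q M
  let e2 := TensorProduct.AlgebraTensorModule.cancelBaseChange A A' A' A' M
  have h := Module.Flat.rTensor_preserves_injective_linearMap (M := A' ⊗[A] M) Q.subtype Subtype.val_injective
  have heq : ∀ z, e2 (Q.subtype.rTensor (A' ⊗[A] M) z) = (Q.subtype.restrictScalars A).rTensor M (e1 z) := fun z => by
    induction z using TensorProduct.induction_on with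
    | zero => simp
    | tmul q w =>
      induction w using TensorProduct.induction_on with
      | zero => simp
      | tmul a m => simp [e1, e2]
      | add x y hx hy =>
        simp only [TensorProduct.tmul_add, map_add] at hx hy ⊢
        rw [hx, hy]
    | add x y hx hy => simp only [map_add, hx, hy]
  intro x y hxy
  have := h (e2.injective (((heq (e1.symm x)).trans ?_).trans (heq (e1.symm y)).symm))
  · simpa using this
  · rwa [e1.apply_symm_apply, e1.apply_symm_apply]

theorem flat_of_trunc {A : Type u} [CommRing A] [Algebra R A] (hA : AR R I A) {B : Type u} [CommRing B]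
    [Algebra R B] [Algebra A B] [IsScalarTower R A B] (hB : AR R I B)
    (hjac : I.map (algebraMap R B) ≤ Ideal.jacobson (⊥ : Ideal B)) (M : Type u) [AddCommGroup M] [Module B M]
    [Module A M] [IsScalarTower A B M] [Module.Finite B M]
    (h : ∀ n : ℕ, Module.Flat (AdicRing.trunc A I n) ((AdicRing.trunc A I n) ⊗[A] M)) : Module.Flat A M := by
  refine Module.Flat.iff_lTensor_injective.2 fun {J} hJ => ?_
  letI : Module R M := Module.compHom M (algebraMap R B)
  haveI : IsScalarTower R B M := IsScalarTower.of_algebraMap_smul fun r x => rfl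
  haveI : IsScalarTower R A M := IsScalarTower.of_algebraMap_smul fun r x => by
    rw [← algebraMap_smul B (algebraMap R A r) x, ← IsScalarTower.algebraMap_apply]
    rfl
  haveI : Module.Finite A J := Module.Finite.iff_fg.2 hJ
  haveI : Module.Finite B (M ⊗[A] J) := by
    obtain ⟨s, hs⟩ := Module.Finite.fg_top (R := B) (M := M)
    obtain ⟨t, ht⟩ := Module.Finite.fg_top (R := A) (M := J)
    classical
    refine ⟨⟨(s ×ˢ t).image fun p => p.1 ⊗ₜ[A] p.2, eq_top_iff.2 fun z hz => ?_⟩⟩
    clear hz
    induction z using TensorProduct.induction_on with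
    | zero => exact Submodule.zero_mem _
    | add x y hx hy => exact add_mem hx hy
    | tmul x j =>
      have hj : j ∈ Submodule.span A (t : Set J) := ht ▸ trivial
      induction hj using Submodule.span_induction generalizing x with
      | mem j hj =>
        have hx : x ∈ Submodule.span B (s : Set M) := hs ▸ trivial
        induction hx using Submodule.span_induction with
        | mem x hx =>
          exact Submodule.subset_span (Finset.mem_image.2 ⟨(x, j), Finset.mem_product.2 ⟨hx, hj⟩, rfl⟩)
        | zero => rw [TensorProduct.zero_tmul]; exact Submodule.zero_mem _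
        | add a b _ _ ha hb => rw [TensorProduct.add_tmul]; exact add_mem ha hb
        | smul c a _ ha => rw [← TensorProduct.smul_tmul']; exact Submodule.smul_mem _ c ha
      | zero => rw [TensorProduct.tmul_zero]; exact Submodule.zero_mem _
      | add a b _ _ ha hb => rw [TensorProduct.tmul_add]; exact add_mem (ha x) (hb x)
      | smul c a _ ha => rw [TensorProduct.tmul_smul, TensorProduct.smul_tmul']; exact ha _
  haveI : IsScalarTower R B (M ⊗[A] J) := IsScalarTower.of_algebraMap_smul fun r z => by
    induction z using TensorProduct.induction_on with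
    | zero => simp
    | tmul x j => rw [TensorProduct.smul_tmul', TensorProduct.smul_tmul', algebraMap_smul]
    | add x y hx hy => rw [smul_add, smul_add, hx, hy]
  haveI : IsHausdorff I (M ⊗[A] J) := isHausdorff_of_ar hB hjac _
  refine (injective_iff_map_eq_zero _).2 fun z hz => IsHausdorff.haus (I := I) inferInstance z fun m => ?_
  rw [SModEq.zero]
  obtain ⟨n₀, hn₀⟩ := hA A J
  let k := m + n₀
  let q : J →ₗ[A] (J.map (Ideal.Quotient.mk ((I ^ (k + 1)).map (algebraMap R A))) : Ideal (AdicRing.trunc A I k)) :=
    { toFun := fun j => ⟨Ideal.Quotient.mk _ (j : A), Ideal.mem_map_of_mem _ j.2⟩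
      map_add' := fun a b => Subtype.ext (map_add _ _ _)
      map_smul' := fun c a => Subtype.ext (by
        show Ideal.Quotient.mk _ (c * (a : A)) = c • Ideal.Quotient.mk _ (a : A)
        rfl) }
  have hq : Function.Surjective q := fun y => by
    obtain ⟨a, ha, hay⟩ := (Ideal.mem_map_iff_of_surjective _ Ideal.Quotient.mk_surjective).1 y.2
    exact ⟨⟨a, ha⟩, Subtype.ext hay⟩
  haveI := h k
  have hqz : q.lTensor M z = 0 := by
    refine rTensor_subtype_injective_of_flat_baseChange (AdicRing.trunc A I k) M _ ?_
    rw [map_zero, ← LinearMap.comp_apply, ← LinearMap.lTensor_comp]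
    have e : (Submodule.restrictScalars A (J.map (Ideal.Quotient.mk ((I ^ (k + 1)).map (algebraMap R A))))).subtype ∘ₗ q =
        (Ideal.Quotient.mkₐ A ((I ^ (k + 1)).map (algebraMap R A))).toLinearMap ∘ₗ J.subtype := rfl
    refine Eq.trans (congrArg (fun f => LinearMap.lTensor M f z) e) ?_
    show LinearMap.lTensor M ((Ideal.Quotient.mkₐ A _).toLinearMap ∘ₗ J.subtype) z = 0
    rw [LinearMap.lTensor_comp, LinearMap.comp_apply, hz, map_zero]
  obtain ⟨w, rfl⟩ := (lTensor_exact M (LinearMap.exact_subtype_ker_map q) hq z).1 hqz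
  clear hz hqz
  induction w using TensorProduct.induction_on with
  | zero => rw [map_zero]; exact Submodule.zero_mem _
  | add x y hx hy => rw [map_add]; exact add_mem hx hy
  | tmul x j =>
    rw [LinearMap.lTensor_tmul]
    have h1 : ((j : J) : A) ∈ I ^ m • J.restrictScalars R := hn₀ m ⟨by
      rw [SetLike.mem_coe, Ideal.smul_top_eq_map, Submodule.restrictScalars_mem]
      exact Ideal.map_mono (Ideal.pow_le_pow_right (Nat.le_succ _))
        (Ideal.Quotient.eq_zero_iff_mem.1 (congrArg Subtype.val (LinearMap.mem_ker.1 j.2))), (j : J).2⟩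
    have h2 := Submodule.mem_map_of_mem (f := (TensorProduct.mk A M J x).restrictScalars R)
      (subtype_mem_smul_top J (I ^ m) h1 (j : J).2)
    rw [Submodule.map_smul''] at h2
    exact Submodule.smul_mono le_rfl le_top h2

theorem faithfullyFlat_of_trunc {A : Type u} [CommRing A] [Algebra R A]
    (hjac : I.map (algebraMap R A) ≤ Ideal.jacobson (⊥ : Ideal A)) (M : Type u) [AddCommGroup M] [Module A M]
    [Module.Flat A M] (h : Module.FaithfullyFlat (AdicRing.trunc A I 0) ((AdicRing.trunc A I 0) ⊗[A] M)) :
    Module.FaithfullyFlat A M := by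
  refine ⟨fun {𝔪} h𝔪 htop => ?_⟩
  have hle : (I ^ (0 + 1)).map (algebraMap R A) ≤ 𝔪 := by
    rw [zero_add, pow_one]
    exact fun x hx => Ideal.mem_sInf.1 (hjac hx) ⟨bot_le, h𝔪⟩
  let π : A →+* AdicRing.trunc A I 0 := Ideal.Quotient.mk _
  haveI : (𝔪.map π).IsMaximal := by
    refine ((Ideal.map_eq_top_or_isMaximal_of_surjective π Ideal.Quotient.mk_surjective h𝔪).resolve_left ?_)
    intro ht
    have := congrArg (Ideal.comap π) ht
    rw [Ideal.comap_map_of_surjective π Ideal.Quotient.mk_surjective, Ideal.comap_top, ← RingHom.ker_eq_comap_bot,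
      Ideal.mk_ker, sup_eq_left.2 hle] at this
    exact h𝔪.ne_top this
  refine h.submodule_ne_top (inferInstance : (𝔪.map π).IsMaximal) (eq_top_iff.2 fun z hz => ?_)
  clear hz
  induction z using TensorProduct.induction_on with
  | zero => exact Submodule.zero_mem _
  | add x y hx hy => exact add_mem hx hy
  | tmul a x =>
    rw [show a ⊗ₜ[A] x = a • ((1 : AdicRing.trunc A I 0) ⊗ₜ[A] x) by rw [TensorProduct.smul_tmul', smul_eq_mul, mul_one]]
    refine Submodule.smul_mem _ a ?_
    have hx : x ∈ 𝔪 • (⊤ : Submodule A M) := by rw [htop]; trivial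
    refine Submodule.smul_induction_on hx (fun c hc y _ => ?_) fun p q hp hq => by
      rw [TensorProduct.tmul_add]; exact add_mem hp hq
    rw [TensorProduct.tmul_smul, ← algebraMap_smul (AdicRing.trunc A I 0) c]
    exact Submodule.smul_mem_smul (Ideal.mem_map_of_mem π hc) trivial

end Groth.Agent.TopFin
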