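/-
Completion of finite modules over algebras with the Artin–Rees property.
-/
import Groth.Agent.TopFin.Basics

set_option autoImplicit false
set_option linter.style.haveILetI false
set_option backward.isDefEq.respectTransparency false

universe u

open scoped TensorProduct

noncomputable section

namespace Groth.Agent.TopFin

variable {R : Type u} [CommRing R] {I : Ideal R} {B : Type u} [CommRing B] [Algebra R B]

theorem AR.ideal (h : AR R I B) (M : Type u) [AddCommGroup M] [Module B M] [Module R M] [IsScalarTower R B M]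
    [Module.Finite B M] (N : Submodule B M) : ∃ n₀ : ℕ, ∀ m : ℕ,
      ((I.map (algebraMap R B)) ^ (m + n₀) • (⊤ : Submodule B M)) ⊓ N ≤ (I.map (algebraMap R B)) ^ m • N := by
  obtain ⟨n₀, hn₀⟩ := h M N
  refine ⟨n₀, fun m x ⟨hx, hxN⟩ => ?_⟩
  have h1 := hn₀ m ⟨?_, hxN⟩
  · rw [← Ideal.smul_restrictScalars, Submodule.restrictScalars_mem, Ideal.map_pow] at h1
    exact h1
  · rw [← Ideal.map_pow, SetLike.mem_coe, ← Submodule.restrictScalars_mem R, Ideal.smul_restrictScalars] at hx
    exact hx

theorem map_subtype_injective (h : AR R I B) {F : Type u} [AddCommGroup F] [Module B F] [Module R F]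
    [IsScalarTower R B F] [Module.Finite B F] (K : Submodule B F) :
    Function.Injective (AdicCompletion.map (I.map (algebraMap R B)) K.subtype) := by
  obtain ⟨n₀, hn₀⟩ := h.ideal F K
  refine (injective_iff_map_eq_zero _).2 fun x => ?_
  apply AdicCompletion.induction_on _ _ x (fun a => ?_)
  intro hx
  refine AdicCompletion.mk_zero_of _ _ _ ⟨0, fun n _ => ⟨n + n₀, by omega, n, le_rfl, ?_⟩⟩
  rw [← Submodule.comap_map_eq_of_injective K.injective_subtype ((I.map (algebraMap R B)) ^ n • ⊤ : Submodule B K),
    Submodule.map_smul'', Submodule.map_top, Submodule.range_subtype]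
  exact hn₀ n ⟨by simpa using congrArg (fun y => y.val (n + n₀)) hx, (a (n + n₀)).2⟩

theorem ker_map_mkQ_le (h : AR R I B) {F : Type u} [AddCommGroup F] [Module B F] [Module R F]
    [IsScalarTower R B F] [Module.Finite B F] (K : Submodule B F)
    (y : AdicCompletion (I.map (algebraMap R B)) F) (hy : AdicCompletion.map (I.map (algebraMap R B)) K.mkQ y = 0) :
    ∃ x, AdicCompletion.map (I.map (algebraMap R B)) K.subtype x = y := by
  obtain ⟨n₀, hn₀⟩ := h.ideal F K
  revert hy
  apply AdicCompletion.induction_on _ _ y (fun b => ?_)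
  intro hy
  have hex : ∀ m, ∃ k : K, b m - (k : F) ∈ ((I.map (algebraMap R B)) ^ m • ⊤ : Submodule B F) := by
    intro m
    have h1 : K.mkQ (b m) ∈ ((I.map (algebraMap R B)) ^ m • ⊤ : Submodule B (F ⧸ K)) := by
      simpa using congrArg (fun z => z.val m) hy
    rw [← Submodule.range_mkQ K, LinearMap.range_eq_map, ← Submodule.map_smul''] at h1
    obtain ⟨z, hz, hzb⟩ := h1
    exact ⟨⟨b m - z, (Submodule.Quotient.eq K).1 hzb.symm⟩, by simpa using hz⟩
  choose k hk using hex
  have hb : ∀ {m l : ℕ}, m ≤ l → b m - b l ∈ ((I.map (algebraMap R B)) ^ m • ⊤ : Submodule B F) := fun hml =>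
    SModEq.sub_mem.1 (b.2 hml)
  have hmono : ∀ {m l : ℕ}, m ≤ l → ((I.map (algebraMap R B)) ^ l • ⊤ : Submodule B F) ≤ (I.map (algebraMap R B)) ^ m • ⊤ :=
    fun hml => Submodule.smul_mono_left (Ideal.pow_le_pow_right hml)
  refine ⟨AdicCompletion.mk _ K (AdicCompletion.AdicCauchySequence.mk _ K (fun m => k (m + n₀)) fun m => ?_), ?_⟩
  · rw [SModEq.sub_mem, ← Submodule.comap_map_eq_of_injective K.injective_subtype ((I.map (algebraMap R B)) ^ m • ⊤ : Submodule B K),
      Submodule.map_smul'', Submodule.map_top, Submodule.range_subtype]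
    refine hn₀ m ⟨?_, (k (m + n₀) - k (m + 1 + n₀)).2⟩
    show ((k (m + n₀) : F) - (k (m + 1 + n₀) : F)) ∈ _
    rw [show (k (m + n₀) : F) - (k (m + 1 + n₀) : F) = (b (m + n₀) - b (m + 1 + n₀)) - (b (m + n₀) - k (m + n₀)) +
      (b (m + 1 + n₀) - k (m + 1 + n₀)) by abel]
    exact add_mem (sub_mem (hb (by omega)) (hk _)) (hmono (by omega) (hk (m + 1 + n₀)))
  · refine AdicCompletion.ext fun m => ?_
    show Submodule.Quotient.mk (k (m + n₀) : F) = Submodule.Quotient.mk (b m)
    rw [Submodule.Quotient.eq, show (k (m + n₀) : F) - b m = -(b m - b (m + n₀)) - (b (m + n₀) - k (m + n₀)) by abel]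
    exact sub_mem (neg_mem (hb (by omega))) (hmono (by omega) (hk _))

theorem ofTensorProduct_surjective_of_sat (hI : I.FG) (h : Good R I B) {F : Type u} [AddCommGroup F] [Module B F]
    [Module R F] [IsScalarTower R B F] [Module.Finite B F] (K : Submodule B F) :
    Function.Surjective (AdicCompletion.ofTensorProduct (I.map (algebraMap R B)) K) := by
  set J := I.map (algebraMap R B)
  have hJ : J.FG := Ideal.FG.map hI _
  let Ks : Submodule B F :=
    { carrier := {x | ∃ n, ∀ a ∈ J ^ n, a • x ∈ K}
      add_mem' := fun {x y} ⟨i, hi⟩ ⟨j, hj⟩ => ⟨i + j, fun a ha => by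
        rw [smul_add]
        exact K.add_mem (hi a (Ideal.pow_le_pow_right (Nat.le_add_right i j) ha))
          (hj a (Ideal.pow_le_pow_right (Nat.le_add_left j i) ha))⟩
      zero_mem' := ⟨0, fun a _ => by rw [smul_zero]; exact K.zero_mem⟩
      smul_mem' := fun b x ⟨i, hi⟩ => ⟨i, fun a ha => by rw [smul_comm]; exact K.smul_mem b (hi a ha)⟩ }
  have hKs : Ks.FG := by
    refine h.1 F Ks fun x k hx => ?_
    obtain ⟨N, g, hg⟩ := Submodule.fg_iff_exists_fin_generating_family.1 (hI.pow (n := k))
    choose e he using fun j => hx (g j) (hg ▸ Submodule.subset_span ⟨j, rfl⟩)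
    refine ⟨Finset.univ.sup e + k, fun a ha => ?_⟩
    rw [pow_add] at ha
    refine Submodule.mul_induction_on ha (fun p hp q hq => ?_) fun p q hp hq => by
      rw [add_smul]; exact K.add_mem hp hq
    rw [← Ideal.map_pow, Ideal.map, ← hg] at hq
    rw [mul_smul]
    induction hq using Submodule.span_induction with
    | mem q hq =>
      obtain ⟨q, hq, rfl⟩ := hq
      rw [algebraMap_smul]
      obtain ⟨c, rfl⟩ := (Submodule.mem_span_range_iff_exists_fun _).1 hq
      rw [Finset.sum_smul, Finset.smul_sum]
      refine sum_mem fun j _ => ?_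
      rw [smul_assoc, ← algebraMap_smul B (c j) (g j • x), smul_comm]
      exact K.smul_mem _ (he j p (Ideal.pow_le_pow_right (Finset.le_sup (Finset.mem_univ j)) hp))
    | zero => rw [zero_smul, smul_zero]; exact K.zero_mem
    | add a b _ _ ha hb => rw [add_smul, smul_add]; exact K.add_mem ha hb
    | smul c a _ hc =>
      rw [smul_assoc, smul_comm]
      exact K.smul_mem c hc
  obtain ⟨s, hs⟩ := hKs
  choose e he using fun y : s => (show (y : F) ∈ Ks from hs ▸ Submodule.subset_span y.2 :
    ∃ n, ∀ a ∈ J ^ n, a • (y : F) ∈ K)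
  let n₀ := Finset.univ.sup e
  let G : Submodule B F := J ^ n₀ • Ks
  have hGK : G ≤ K := by
    refine Submodule.smul_le.2 fun a ha x hx => ?_
    rw [← hs] at hx
    induction hx using Submodule.span_induction with
    | mem y hy => exact he ⟨y, hy⟩ a (Ideal.pow_le_pow_right (Finset.le_sup (Finset.mem_univ _)) ha)
    | zero => rw [smul_zero]; exact K.zero_mem
    | add p q _ _ hp hq => rw [smul_add]; exact K.add_mem hp hq
    | smul c p _ hp => rw [smul_comm]; exact K.smul_mem c hp
  haveI : Module.Finite B G := Module.Finite.iff_fg.2 (Submodule.FG.smul (hJ.pow (n := n₀)) ⟨s, hs⟩)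
  intro x
  obtain ⟨y, hy⟩ := Submodule.Quotient.mk_surjective _ (AdicCompletion.eval J K n₀ x)
  have hxy : x - AdicCompletion.of J K y ∈ (J ^ n₀ • ⊤ : Submodule B (AdicCompletion J K)) := by
    rw [AdicCompletion.pow_smul_top_eq_ker_eval hJ, LinearMap.mem_ker, map_sub, sub_eq_zero, ← hy]
    rfl
  let T := ((AdicCompletion.ofTensorProduct J K).restrictScalars B).range
  suffices hT : x ∈ T by exact hT
  have h1 : (J ^ n₀ • ⊤ : Submodule B (AdicCompletion J K)) ≤ T := by
    refine Submodule.smul_le.2 fun a ha z _ => ?_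
    let ga : K →ₗ[B] G := (LinearMap.lsmul B F a ∘ₗ K.subtype).codRestrict G fun k =>
      Submodule.smul_mem_smul ha (show (k : F) ∈ Ks from ⟨0, fun c _ => K.smul_mem c k.2⟩)
    have e1 : a • z = AdicCompletion.map J (Submodule.inclusion hGK) (AdicCompletion.map J ga z) := by
      rw [← LinearMap.comp_apply, AdicCompletion.map_comp]
      apply AdicCompletion.induction_on _ _ z (fun c => ?_)
      refine AdicCompletion.ext fun m => ?_
      rfl
    obtain ⟨w, hw⟩ := AdicCompletion.ofTensorProduct_surjective_of_finite J G (AdicCompletion.map J ga z)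
    rw [e1, ← hw]
    exact ⟨_, (LinearMap.congr_fun (AdicCompletion.ofTensorProduct_naturality J (Submodule.inclusion hGK)) w).symm⟩
  have h2 : AdicCompletion.of J K y ∈ T := ⟨1 ⊗ₜ y, by simp⟩
  simpa using T.add_mem (h1 hxy) h2

theorem ofTensorProduct_bijective (hI : I.FG) (h : Good R I B) (M : Type u) [AddCommGroup M] [Module B M]
    [Module.Finite B M] : Function.Bijective (AdicCompletion.ofTensorProduct (I.map (algebraMap R B)) M) := by
  set J := I.map (algebraMap R B)
  refine ⟨?_, AdicCompletion.ofTensorProduct_surjective_of_finite J M⟩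
  obtain ⟨n, p, hp⟩ := Module.Finite.exists_fin' B M
  let K := LinearMap.ker p
  let e : ((Fin n → B) ⧸ K) ≃ₗ[B] M := p.quotKerEquivOfSurjective hp
  have hep : e.toLinearMap ∘ₗ K.mkQ = p := LinearMap.ext fun v => rfl
  refine (injective_iff_map_eq_zero _).2 fun z hz => ?_
  obtain ⟨w, rfl⟩ := LinearMap.lTensor_surjective (AdicCompletion J B) hp z
  have hw : AdicCompletion.map J p (AdicCompletion.ofTensorProduct J _ w) = 0 :=
    (LinearMap.congr_fun (AdicCompletion.ofTensorProduct_naturality J p) w).trans hz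
  have hw' : AdicCompletion.map J K.mkQ (AdicCompletion.ofTensorProduct J _ w) = 0 := by
    have := congrArg (AdicCompletion.map J e.symm.toLinearMap) hw
    rw [map_zero, ← LinearMap.comp_apply, AdicCompletion.map_comp, ← hep, ← LinearMap.comp_assoc] at this
    simpa using this
  obtain ⟨x, hx⟩ := ker_map_mkQ_le h.2 K _ hw'
  obtain ⟨v, rfl⟩ := ofTensorProduct_surjective_of_sat hI h K x
  have hv : w = LinearMap.lTensor (AdicCompletion J B) K.subtype v :=
    (AdicCompletion.ofTensorProduct_bijective_of_pi_of_fintype J (Fin n)).injective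
      (hx.symm.trans (LinearMap.congr_fun (AdicCompletion.ofTensorProduct_naturality J K.subtype) v))
  rw [hv, ← LinearMap.comp_apply, ← LinearMap.lTensor_comp,
    show p ∘ₗ K.subtype = 0 from LinearMap.ext fun k => k.2, LinearMap.lTensor_zero, LinearMap.zero_apply]

theorem flat_adicCompletion (hI : I.FG) (h : Good R I B) :
    Module.Flat B (AdicCompletion (I.map (algebraMap R B)) B) := by
  refine Module.Flat.iff_lTensor_injective.2 fun {K} hK => ?_
  haveI : Module.Finite B K := Module.Finite.iff_fg.2 hK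
  have h1 := (map_subtype_injective h.2 K).comp (ofTensorProduct_bijective hI h K).injective
  rw [← LinearMap.coe_comp, AdicCompletion.ofTensorProduct_naturality] at h1
  exact Function.Injective.of_comp h1

end Groth.Agent.TopFin
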