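/-
Complete localisations: flatness, and local nature of the topological finiteness conditions.
-/
import Groth.Agent.TopFin.Fp
import Groth.Agent.TopFin.Completion

set_option autoImplicit false
set_option linter.style.haveILetI false
set_option backward.isDefEq.respectTransparency false

universe u

noncomputable section

namespace Groth.Agent.TopFin

variable {R : Type u} [CommRing R] {I : Ideal R}

theorem isAdicComplete_completion (hI : I.FG) (S : Type u) [CommRing S] [Algebra R S] :
    IsAdicComplete (I.map (algebraMap R (AdicCompletion (I.map (algebraMap R S)) S)))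
      (AdicCompletion (I.map (algebraMap R S)) S) := by
  have h1 := AdicCompletion.isAdicComplete (I := I.map (algebraMap R S)) (M := S) (Ideal.FG.map hI _)
  have h2 := (IsAdicComplete.map_algebraMap_iff (I := I.map (algebraMap R S))
    (M := AdicCompletion (I.map (algebraMap R S)) S) (S := AdicCompletion (I.map (algebraMap R S)) S)).2 h1
  rw [Ideal.map_map] at h2
  exact h2

theorem mem_pow_map_completion_iff (hI : I.FG) {S : Type u} [CommRing S] [Algebra R S] (k : ℕ)
    (x : AdicCompletion (I.map (algebraMap R S)) S) :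
    x ∈ (I ^ k).map (algebraMap R (AdicCompletion (I.map (algebraMap R S)) S)) ↔
      AdicCompletion.eval (I.map (algebraMap R S)) S k x = 0 := by
  rw [← LinearMap.mem_ker, ← AdicCompletion.pow_smul_top_eq_ker_eval (Ideal.FG.map hI _), Ideal.smul_top_eq_map,
    Submodule.restrictScalars_mem, ← Ideal.map_pow, Ideal.map_map, ← IsScalarTower.algebraMap_eq]

/-- Truncations of a completion. -/
def completionTruncEquiv (hI : I.FG) (S : Type u) [CommRing S] [Algebra R S] (k : ℕ) :
    (S ⧸ (I ^ k).map (algebraMap R S)) ≃ₐ[R]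
      (AdicCompletion (I.map (algebraMap R S)) S ⧸
        (I ^ k).map (algebraMap R (AdicCompletion (I.map (algebraMap R S)) S))) :=
  AlgEquiv.ofBijective (Ideal.quotientMapₐ _ (IsScalarTower.toAlgHom R S _) (Ideal.map_le_iff_le_comap.2 fun a ha =>
      show IsScalarTower.toAlgHom R S (AdicCompletion (I.map (algebraMap R S)) S) (algebraMap R S a) ∈ _ by
        rw [AlgHom.commutes]; exact Ideal.mem_map_of_mem _ ha)) <| by
    refine ⟨(injective_iff_map_eq_zero _).2 fun z hz => ?_, fun z => ?_⟩
    · obtain ⟨s, rfl⟩ := Ideal.Quotient.mk_surjective z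
      have hz' : algebraMap S (AdicCompletion (I.map (algebraMap R S)) S) s ∈
          (I ^ k).map (algebraMap R (AdicCompletion (I.map (algebraMap R S)) S)) := Ideal.Quotient.eq_zero_iff_mem.1 hz
      rw [mem_pow_map_completion_iff hI] at hz'
      change Submodule.Quotient.mk s = 0 at hz'
      rw [Submodule.Quotient.mk_eq_zero, smul_eq_mul, Ideal.mul_top, ← Ideal.map_pow] at hz'
      exact Ideal.Quotient.eq_zero_iff_mem.2 hz'
    · obtain ⟨x, rfl⟩ := Ideal.Quotient.mk_surjective z
      obtain ⟨s, hs⟩ := Submodule.Quotient.mk_surjective _ (AdicCompletion.eval (I.map (algebraMap R S)) S k x)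
      refine ⟨Ideal.Quotient.mk _ s, ?_⟩
      show Ideal.Quotient.mk _ (algebraMap S _ s) = Ideal.Quotient.mk _ x
      rw [Ideal.Quotient.eq, mem_pow_map_completion_iff hI, map_sub, sub_eq_zero, ← hs]
      rfl

theorem isLocalization_trunc {A : Type u} [CommRing A] [Algebra R A] (f : A) (k : ℕ) :
    IsLocalization.Away (Ideal.Quotient.mk ((I ^ k).map (algebraMap R A)) f)
      (Localization.Away f ⧸ ((I ^ k).map (algebraMap R A)).map (algebraMap A (Localization.Away f))) := by
  have h : Algebra.algebraMapSubmonoid (A ⧸ (I ^ k).map (algebraMap R A)) (Submonoid.powers f) =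
      Submonoid.powers (Ideal.Quotient.mk ((I ^ k).map (algebraMap R A)) f) := by
    rw [Algebra.algebraMapSubmonoid, Submonoid.map_powers]
    rfl
  have h2 : IsLocalization (Algebra.algebraMapSubmonoid (A ⧸ (I ^ k).map (algebraMap R A)) (Submonoid.powers f))
      (Localization.Away f ⧸ ((I ^ k).map (algebraMap R A)).map (algebraMap A (Localization.Away f))) := inferInstance
  rwa [h] at h2

/-- The truncation of `A⟨1/f⟩` is a localisation of the truncation of `A`. -/
def cLocTruncEquiv (hI : I.FG) {A : Type u} [CommRing A] [Algebra R A] (f : A) (k : ℕ) :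
    Localization.Away (Ideal.Quotient.mk ((I ^ k).map (algebraMap R A)) f) ≃ₐ[R]
      (AdicRing.CLoc I f ⧸ (I ^ k).map (algebraMap R (AdicRing.CLoc I f))) :=
  haveI := isLocalization_trunc (I := I) f k
  haveI : IsScalarTower R (A ⧸ (I ^ k).map (algebraMap R A))
      (Localization.Away f ⧸ ((I ^ k).map (algebraMap R A)).map (algebraMap A (Localization.Away f))) :=
    IsScalarTower.of_algebraMap_eq fun _ => rfl
  (((IsLocalization.algEquiv (Submonoid.powers (Ideal.Quotient.mk ((I ^ k).map (algebraMap R A)) f))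
      (Localization.Away (Ideal.Quotient.mk ((I ^ k).map (algebraMap R A)) f))
      (Localization.Away f ⧸ ((I ^ k).map (algebraMap R A)).map (algebraMap A (Localization.Away f)))).restrictScalars R).trans
    (Ideal.quotientEquivAlgOfEq R (by rw [Ideal.map_map, ← IsScalarTower.algebraMap_eq]))).trans
    (completionTruncEquiv hI (Localization.Away f) k)

theorem topFiniteType_cLoc (hI : I.FG) {A : Type u} [CommRing A] [Algebra R A]
    (hA : AdicRing.TopFiniteType R I A) (f : A) : AdicRing.TopFiniteType R I (AdicRing.CLoc I f) := by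
  haveI := isAdicComplete_completion hI (Localization.Away f)
  refine topFiniteType_of_finiteType hI ?_
  haveI := finiteType_trunc hI hA 1
  haveI : Algebra.FiniteType R (Localization.Away (Ideal.Quotient.mk ((I ^ 1).map (algebraMap R A)) f)) :=
    Algebra.FiniteType.trans (S := A ⧸ (I ^ 1).map (algebraMap R A)) inferInstance inferInstance
  have h := Algebra.FiniteType.equiv inferInstance (cLocTruncEquiv hI f 1)
  rwa [pow_one] at h

theorem flat_cLoc (hR : AdicRing.IsBase R I) {A : Type u} [CommRing A] [Algebra R A]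
    (hA : AdicRing.TopFiniteType R I A) (f : A) : Module.Flat A (AdicRing.CLoc I f) := by
  haveI : Module.Flat (Localization.Away f) (AdicRing.CLoc I f) :=
    flat_adicCompletion (AdicRingLib.fg_of_isBase hR) (good_of_finiteType hR hA (Localization.Away f))
  haveI : Module.Flat A (Localization.Away f) := IsLocalization.flat _ (Submonoid.powers f)
  exact Module.Flat.trans A (Localization.Away f) _

theorem faithfullyFlat_pi_cLoc (hR : AdicRing.IsBase R I) {A : Type u} [CommRing A] [Algebra R A]
    (hA : AdicRing.TopFiniteType R I A) {r : ℕ} (f : Fin r → A) (hf : Ideal.span (Set.range f) = ⊤) :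
    Module.FaithfullyFlat A (∀ i, AdicRing.CLoc I (f i)) := by
  have hI := AdicRingLib.fg_of_isBase hR
  haveI := fun i => flat_cLoc hR hA (f i)
  classical
  haveI : Module.Flat A (∀ i, AdicRing.CLoc I (f i)) :=
    Module.Flat.of_linearEquiv (DirectSum.linearEquivFunOnFintype A (Fin r) fun i => AdicRing.CLoc I (f i)).symm
  refine ⟨fun {𝔪} h𝔪 htop => ?_⟩
  have hle : (I ^ 1).map (algebraMap R A) ≤ 𝔪 := by
    rw [pow_one]
    exact fun x hx => Ideal.mem_sInf.1 (le_jacobson hI hA hx) ⟨bot_le, h𝔪⟩
  obtain ⟨i, hi⟩ : ∃ i, f i ∉ 𝔪 := by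
    by_contra! h
    exact h𝔪.ne_top (top_le_iff.1 (hf ▸ Ideal.span_le.2 (by rintro _ ⟨i, rfl⟩; exact h i)))
  letI := Ideal.Quotient.field 𝔪
  let g : Localization.Away (Ideal.Quotient.mk ((I ^ 1).map (algebraMap R A)) (f i)) →+* A ⧸ 𝔪 :=
    IsLocalization.Away.lift (Ideal.Quotient.mk _ (f i)) (g := Ideal.Quotient.factor hle)
      (isUnit_iff_ne_zero.2 fun h => hi (Ideal.Quotient.eq_zero_iff_mem.1 h))
  let χ : (∀ j, AdicRing.CLoc I (f j)) →+* A ⧸ 𝔪 :=
    ((g.comp (cLocTruncEquiv hI (f i) 1).symm.toRingEquiv.toRingHom).comp (Ideal.Quotient.mk _)).comp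
      (Pi.evalRingHom (fun j => AdicRing.CLoc I (f j)) i)
  have hχ : ∀ a, χ (algebraMap A _ a) = Ideal.Quotient.mk 𝔪 a := fun a => by
    show g ((cLocTruncEquiv hI (f i) 1).symm (Ideal.Quotient.mk _ (algebraMap A (AdicRing.CLoc I (f i)) a))) = _
    rw [show Ideal.Quotient.mk _ (algebraMap A (AdicRing.CLoc I (f i)) a) =
      cLocTruncEquiv hI (f i) 1 (algebraMap _ _ (Ideal.Quotient.mk ((I ^ 1).map (algebraMap R A)) a)) by
      unfold cLocTruncEquiv
      simp only [AlgEquiv.trans_apply, AlgEquiv.restrictScalars_apply, AlgEquiv.commutes]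
      rfl, AlgEquiv.symm_apply_apply]
    exact IsLocalization.Away.lift_eq _ _ _
  have h1 : (1 : ∀ j, AdicRing.CLoc I (f j)) ∈ 𝔪 • (⊤ : Submodule A (∀ j, AdicRing.CLoc I (f j))) := by
    rw [htop]; trivial
  have h2 : χ 1 = 0 := by
    refine Submodule.smul_induction_on h1 (fun a ha y _ => ?_) fun a b ha hb => by rw [map_add, ha, hb, add_zero]
    rw [Algebra.smul_def, map_mul, hχ, Ideal.Quotient.eq_zero_iff_mem.2 ha, zero_mul]
  rw [map_one] at h2
  exact one_ne_zero h2

theorem span_range_trunc {A : Type u} [CommRing A] [Algebra R A] {r : ℕ} (f : Fin r → A)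
    (hf : Ideal.span (Set.range f) = ⊤) (k : ℕ) :
    Ideal.span (Set.range fun i => Ideal.Quotient.mk ((I ^ k).map (algebraMap R A)) (f i)) = ⊤ := by
  rw [show (fun i => Ideal.Quotient.mk ((I ^ k).map (algebraMap R A)) (f i)) = ⇑(Ideal.Quotient.mk _) ∘ f from rfl,
    Set.range_comp, ← Ideal.map_span, hf, Ideal.map_top]

theorem topFiniteType_iff_cLoc (hI : I.FG) {A : Type u} [CommRing A] [Algebra R A]
    [IsAdicComplete (I.map (algebraMap R A)) A] {r : ℕ} (f : Fin r → A) (hf : Ideal.span (Set.range f) = ⊤) :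
    AdicRing.TopFiniteType R I A ↔ ∀ i, AdicRing.TopFiniteType R I (AdicRing.CLoc I (f i)) := by
  refine ⟨fun h i => topFiniteType_cLoc hI h (f i), fun h => topFiniteType_of_finiteType hI ?_⟩
  suffices h1 : Algebra.FiniteType R (A ⧸ (I ^ 1).map (algebraMap R A)) by rwa [pow_one] at h1
  rw [← RingHom.finiteType_algebraMap]
  refine RingHom.finiteType_ofLocalizationSpanTarget _ _ (span_range_trunc (I := I) f hf 1) ?_
  rintro ⟨_, i, rfl⟩
  have hi : Algebra.FiniteType R (Localization.Away (Ideal.Quotient.mk ((I ^ 1).map (algebraMap R A)) (f i))) :=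
    Algebra.FiniteType.equiv (finiteType_trunc hI (h i) 1) (cLocTruncEquiv hI (f i) 1).symm
  rw [← IsScalarTower.algebraMap_eq, RingHom.finiteType_algebraMap]
  exact hi

theorem topFinitePresentation_iff_cLoc (hR : AdicRing.IsBase R I) {A : Type u} [CommRing A] [Algebra R A]
    [IsAdicComplete (I.map (algebraMap R A)) A] {r : ℕ} (f : Fin r → A) (hf : Ideal.span (Set.range f) = ⊤) :
    AdicRing.TopFinitePresentation R I A ↔ ∀ i, AdicRing.TopFinitePresentation R I (AdicRing.CLoc I (f i)) := by
  have hI := AdicRingLib.fg_of_isBase hR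
  refine ⟨fun h i => ?_, fun h => topFinitePresentation_of_trunc hR fun n => ?_⟩
  · haveI := isAdicComplete_completion hI (Localization.Away (f i))
    refine topFinitePresentation_of_trunc hR fun n => ?_
    haveI := finitePresentation_trunc hI h (n + 1)
    haveI : Algebra.FinitePresentation R
        (Localization.Away (Ideal.Quotient.mk ((I ^ (n + 1)).map (algebraMap R A)) (f i))) :=
      Algebra.FinitePresentation.trans R (A ⧸ (I ^ (n + 1)).map (algebraMap R A)) _
    exact Algebra.FinitePresentation.equiv (cLocTruncEquiv hI (f i) (n + 1))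
  · rw [← RingHom.finitePresentation_algebraMap]
    refine RingHom.finitePresentation_ofLocalizationSpanTarget _ _ (span_range_trunc (I := I) f hf (n + 1)) ?_
    rintro ⟨_, i, rfl⟩
    haveI := finitePresentation_trunc hI (h i) (n + 1)
    rw [← IsScalarTower.algebraMap_eq, RingHom.finitePresentation_algebraMap]
    exact Algebra.FinitePresentation.equiv (cLocTruncEquiv hI (f i) (n + 1)).symm

theorem noPowTorsion_map {A : Type u} [CommRing A] [Algebra R A] (h : AdicRing.NoPowTorsion I A) :
    AdicRing.NoPowTorsion (I.map (algebraMap R A)) A := fun x n hx => h x n fun a ha => by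
  rw [Algebra.smul_def]
  exact hx _ (by rw [← Ideal.map_pow]; exact Ideal.mem_map_of_mem _ ha)

theorem noPowTorsion_of_flat_algebra (hI : I.FG) {A : Type u} [CommRing A] [Algebra R A]
    (h : AdicRing.NoPowTorsion I A) (M : Type u) [AddCommGroup M] [Module A M] [Module R M] [IsScalarTower R A M]
    [Module.Flat A M] : AdicRing.NoPowTorsion I M := fun x n hx => by
  refine noPowTorsion_of_flat (Ideal.FG.map hI _) (noPowTorsion_map h) M x n fun b hb => ?_
  rw [← Ideal.map_pow] at hb
  refine Submodule.span_induction (fun b hb => ?_) (zero_smul _ _) (fun a b _ _ ha hb => by rw [add_smul, ha, hb, add_zero])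
    (fun c a _ ha => by rw [smul_assoc, ha, smul_zero]) hb
  obtain ⟨a, ha, rfl⟩ := hb
  rw [algebraMap_smul]
  exact hx a ha

theorem admissible_iff_cLoc (hR : AdicRing.IsBase R I) {A : Type u} [CommRing A] [Algebra R A]
    [IsAdicComplete (I.map (algebraMap R A)) A] {r : ℕ} (f : Fin r → A) (hf : Ideal.span (Set.range f) = ⊤) :
    AdicRing.Admissible R I A ↔ ∀ i, AdicRing.Admissible R I (AdicRing.CLoc I (f i)) := by
  have hI := AdicRingLib.fg_of_isBase hR
  refine ⟨fun h i => ⟨(topFinitePresentation_iff_cLoc hR f hf).1 h.1 i, ?_⟩, fun h => ?_⟩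
  · haveI := flat_cLoc hR (TopFinitePresentation.topFiniteType h.1) (f i)
    exact noPowTorsion_of_flat_algebra hI h.2 _
  · have hA : AdicRing.TopFinitePresentation R I A := (topFinitePresentation_iff_cLoc hR f hf).2 fun i => (h i).1
    haveI := faithfullyFlat_pi_cLoc hR (TopFinitePresentation.topFiniteType hA) f hf
    refine ⟨hA, fun x n hx => ?_⟩
    have hall : ∀ i, algebraMap A (AdicRing.CLoc I (f i)) x = 0 := fun i => (h i).2 _ n fun a ha => by
      rw [Algebra.smul_def, IsScalarTower.algebraMap_apply R A (AdicRing.CLoc I (f i)), ← map_mul, ← Algebra.smul_def,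
        hx a ha, map_zero]
    exact (faithfulSMul_iff_algebraMap_injective A (∀ i, AdicRing.CLoc I (f i))).1 inferInstance
      (show algebraMap A (∀ i, AdicRing.CLoc I (f i)) x = algebraMap A _ 0 by
        rw [map_zero]; exact funext hall)

end Groth.Agent.TopFin
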