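/-
Torsion in completed chart algebras.
-/
import Groth.Agent.TopFin.Completion

set_option autoImplicit false
set_option linter.style.haveILetI false
set_option backward.isDefEq.respectTransparency false

universe u

open scoped TensorProduct

noncomputable section

namespace Groth.Agent.TopFin

variable {A : Type u} [CommRing A] {ι : Type} {f : ι → A} {i : ι}

theorem algebraMap_mem_span (j : ι) :
    algebraMap A (AdicRing.chartAlg f i) (f j) ∈ Ideal.span {algebraMap A (AdicRing.chartAlg f i) (f i)} := by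
  by_cases h : j = i
  · subst h; exact Ideal.mem_span_singleton_self _
  · refine Ideal.mem_span_singleton'.2 ⟨Ideal.Quotient.mk _ (MvPolynomial.X ⟨j, h⟩), ?_⟩
    rw [mul_comm]
    show Ideal.Quotient.mk _ (MvPolynomial.C (f i)) * Ideal.Quotient.mk _ _ = Ideal.Quotient.mk _ (MvPolynomial.C (f j))
    rw [← map_mul, Ideal.Quotient.eq]
    exact Ideal.subset_span ⟨⟨j, h⟩, rfl⟩

theorem exists_pow_mul_mem_range (y : AdicRing.chartAlg f i) :
    ∃ (N : ℕ) (a : A), algebraMap A (AdicRing.chartAlg f i) (f i) ^ N * y = algebraMap A _ a := by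
  obtain ⟨p, rfl⟩ := Ideal.Quotient.mk_surjective y
  induction p using MvPolynomial.induction_on with
  | C a => exact ⟨0, a, by rw [pow_zero, one_mul]; rfl⟩
  | add p q hp hq =>
    obtain ⟨N, a, ha⟩ := hp
    obtain ⟨M, b, hb⟩ := hq
    refine ⟨N + M, f i ^ M * a + f i ^ N * b, ?_⟩
    rw [map_add (Ideal.Quotient.mk _), map_add, map_mul, map_mul, map_pow, map_pow, ← ha, ← hb]
    ring
  | mul_X p j hp =>
    obtain ⟨N, a, ha⟩ := hp
    refine ⟨N + 1, a * f j.1, ?_⟩
    have hj : algebraMap A (AdicRing.chartAlg f i) (f i) * Ideal.Quotient.mk _ (MvPolynomial.X j) =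
        algebraMap A (AdicRing.chartAlg f i) (f j.1) := by
      show Ideal.Quotient.mk _ (MvPolynomial.C (f i)) * _ = Ideal.Quotient.mk _ (MvPolynomial.C (f j.1))
      rw [← map_mul, Ideal.Quotient.eq]
      exact Ideal.subset_span ⟨j, rfl⟩
    rw [map_mul (Ideal.Quotient.mk _), map_mul, ← ha, ← hj]
    ring

theorem exists_pow_mul_eq_zero {a : A} (ha : algebraMap A (AdicRing.chartAlg f i) a = 0) :
    ∃ M : ℕ, f i ^ M * a = 0 := by
  let L := Localization.Away (f i)
  let α : MvPolynomial {j : ι // j ≠ i} A →ₐ[A] L :=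
    MvPolynomial.aeval fun j => algebraMap A L (f j.1) * IsLocalization.Away.invSelf (S := L) (f i)
  have hle : (Ideal.span (Set.range fun j : {j : ι // j ≠ i} =>
      MvPolynomial.C (f i) * MvPolynomial.X j - MvPolynomial.C (f j.1))) ≤ RingHom.ker α.toRingHom := by
    rw [Ideal.span_le]
    rintro _ ⟨j, rfl⟩
    show α _ = 0
    simp only [α, map_sub, map_mul, MvPolynomial.aeval_C, MvPolynomial.aeval_X]
    rw [mul_left_comm, IsLocalization.Away.mul_invSelf, mul_one, sub_self]
  have h : algebraMap A L a = 0 := by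
    have h1 : α (MvPolynomial.C a) = 0 := hle (Ideal.Quotient.eq_zero_iff_mem.1 ha)
    simpa [α] using h1
  obtain ⟨⟨_, M, rfl⟩, hM⟩ := (IsLocalization.map_eq_zero_iff (Submonoid.powers (f i)) L a).1 h
  exact ⟨M, hM⟩

variable {R : Type u} [CommRing R] [Algebra R A] {I : Ideal R}

theorem exists_pow_mul_eq_zero_of_torsion (hI : I.FG) (hT : AdicRing.NoPowTorsion I A) (y : AdicRing.chartAlg f i)
    (n : ℕ) (hy : ∀ c ∈ I ^ n, c • y = 0) : ∃ m : ℕ, algebraMap A (AdicRing.chartAlg f i) (f i) ^ m * y = 0 := by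
  obtain ⟨N, a, ha⟩ := exists_pow_mul_mem_range y
  obtain ⟨g, c, hc⟩ := Submodule.fg_iff_exists_fin_generating_family.1 (hI.pow (n := n))
  have hz : ∀ l, algebraMap A (AdicRing.chartAlg f i) (c l • a) = 0 := fun l => by
    rw [Algebra.smul_def, map_mul, ← IsScalarTower.algebraMap_apply, ← ha, mul_left_comm, ← Algebra.smul_def,
      hy _ (hc ▸ Submodule.subset_span ⟨l, rfl⟩), mul_zero]
  choose M hM using fun l => exists_pow_mul_eq_zero (hz l)
  have h0 : f i ^ Finset.univ.sup M * a = 0 := hT _ n fun b hb => by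
    rw [← hc] at hb
    obtain ⟨d, rfl⟩ := (Submodule.mem_span_range_iff_exists_fun _).1 hb
    rw [Finset.sum_smul]
    refine Finset.sum_eq_zero fun l _ => ?_
    obtain ⟨e, he⟩ := Nat.exists_eq_add_of_le (Finset.le_sup (f := M) (Finset.mem_univ l))
    rw [smul_assoc, ← mul_smul_comm, he, pow_add, mul_comm (f i ^ M l), mul_assoc, hM l, mul_zero, smul_zero]
  refine ⟨Finset.univ.sup M + N, ?_⟩
  rw [pow_add, mul_assoc, ha, ← map_pow, ← map_mul, h0, map_zero]

theorem exists_pow_mul_completion_eq_zero {B : Type u} [CommRing B] [Algebra R B] (hI : I.FG) (hgood : Good R I B)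
    (F : B) (hlocal : ∀ (y : B) (n : ℕ), (∀ c ∈ I ^ n, c • y = 0) → ∃ m : ℕ, F ^ m * y = 0)
    (x : AdicCompletion (I.map (algebraMap R B)) B) (n : ℕ) (hx : ∀ a ∈ I ^ n, a • x = 0) :
    ∃ m : ℕ, algebraMap B (AdicCompletion (I.map (algebraMap R B)) B) F ^ m * x = 0 := by
  let Bc := AdicCompletion (I.map (algebraMap R B)) B
  let T : Submodule B B :=
    { carrier := {y | ∃ n, ∀ a ∈ I ^ n, a • y = 0}
      add_mem' := fun {y z} ⟨p, hp⟩ ⟨q, hq⟩ => ⟨p + q, fun a ha => by
        rw [smul_add, hp a (Ideal.pow_le_pow_right (Nat.le_add_right p q) ha),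
          hq a (Ideal.pow_le_pow_right (Nat.le_add_left q p) ha), add_zero]⟩
      zero_mem' := ⟨0, fun a _ => smul_zero a⟩
      smul_mem' := fun b y ⟨p, hp⟩ => ⟨p, fun a ha => by rw [smul_comm, hp a ha, smul_zero]⟩ }
  have hTfg : T.FG := by
    refine hgood.1 B T fun y p hy => ?_
    obtain ⟨g, c, hc⟩ := Submodule.fg_iff_exists_fin_generating_family.1 (hI.pow (n := p))
    choose e he using fun l => hy (c l) (hc ▸ Submodule.subset_span ⟨l, rfl⟩)
    refine ⟨Finset.univ.sup e + p, fun a ha => ?_⟩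
    rw [pow_add] at ha
    refine Submodule.mul_induction_on ha (fun b hb d hd => ?_) fun b d hb hd => by rw [add_smul, hb, hd, add_zero]
    rw [← hc] at hd
    obtain ⟨w, rfl⟩ := (Submodule.mem_span_range_iff_exists_fun _).1 hd
    rw [mul_smul, Finset.sum_smul, Finset.smul_sum]
    refine Finset.sum_eq_zero fun l _ => ?_
    rw [smul_assoc, smul_comm, he l b (Ideal.pow_le_pow_right (Finset.le_sup (Finset.mem_univ l)) hb), smul_zero]
  obtain ⟨s, hs⟩ := hTfg
  choose mm hmm using fun y : s => hlocal (y : B)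
    (show (y : B) ∈ T from hs ▸ Submodule.subset_span y.2).choose
    (show (y : B) ∈ T from hs ▸ Submodule.subset_span y.2).choose_spec
  have hkill : ∀ y ∈ T, F ^ Finset.univ.sup mm * y = 0 := fun y hy => by
    rw [← hs] at hy
    induction hy using Submodule.span_induction with
    | mem z hz =>
      obtain ⟨e, he⟩ := Nat.exists_eq_add_of_le (Finset.le_sup (f := mm) (Finset.mem_univ ⟨z, hz⟩))
      rw [he, pow_add, mul_comm (F ^ mm ⟨z, hz⟩), mul_assoc]
      exact (congrArg _ (hmm ⟨z, hz⟩)).trans (mul_zero _)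
    | zero => rw [mul_zero]
    | add p q _ _ hp hq => rw [mul_add, hp, hq, add_zero]
    | smul b p _ hp => rw [smul_eq_mul, mul_left_comm, hp, mul_zero]
  haveI : Module.Flat B Bc := flat_adicCompletion hI hgood
  obtain ⟨g, c, hc⟩ := Submodule.fg_iff_exists_fin_generating_family.1 (hI.pow (n := n))
  let π : B →ₗ[B] (Fin g → B) := LinearMap.pi fun l => LinearMap.lsmul B B (algebraMap R B (c l))
  have hker : π.lTensor Bc (x ⊗ₜ[B] (1 : B)) = 0 := by
    rw [LinearMap.lTensor_tmul]
    refine (TensorProduct.piScalarRight B B Bc (Fin g)).injective (funext fun l => ?_)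
    rw [map_zero, TensorProduct.piScalarRight_apply, TensorProduct.piScalarRightHom_tmul]
    show (algebraMap R B (c l) • (1 : B)) • x = 0
    rw [smul_eq_mul, mul_one, algebraMap_smul]
    exact hx _ (hc ▸ Submodule.subset_span ⟨l, rfl⟩)
  obtain ⟨w, hw⟩ := (Module.Flat.lTensor_exact Bc (LinearMap.exact_subtype_ker_map π) _).1 hker
  refine ⟨Finset.univ.sup mm, ?_⟩
  have h1 : algebraMap B Bc (F ^ Finset.univ.sup mm) *
      TensorProduct.rid B Bc ((LinearMap.ker π).subtype.lTensor Bc w) = 0 := by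
    clear hw
    induction w using TensorProduct.induction_on with
    | zero => simp
    | add p q hp hq => rw [map_add, map_add, mul_add, hp, hq, add_zero]
    | tmul p y =>
      rw [LinearMap.lTensor_tmul, TensorProduct.rid_tmul, Algebra.smul_def, ← mul_assoc, ← map_mul,
        hkill _ ⟨n, fun a ha => ?_⟩, map_zero, zero_mul]
      rw [← hc] at ha
      obtain ⟨w, rfl⟩ := (Submodule.mem_span_range_iff_exists_fun _).1 ha
      rw [Finset.sum_smul]
      refine Finset.sum_eq_zero fun l _ => ?_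
      rw [smul_assoc, show (c l) • ((LinearMap.ker π).subtype y) = 0 by
        rw [← algebraMap_smul B (c l)]; exact congrFun (LinearMap.mem_ker.1 y.2) l, smul_zero]
  rw [hw, TensorProduct.rid_tmul, one_smul, map_pow] at h1
  exact h1

theorem torsion_of_pow_mul_eq_zero {B : Type u} [CommRing B] [Algebra R B] {M : Type u} [CommRing M] [Algebra B M]
    [Algebra R M] [IsScalarTower R B M] {F : B} {k : ℕ} (h : (I ^ k).map (algebraMap R B) ≤ Ideal.span {F})
    (x : M) (n : ℕ) (hx : algebraMap B M F ^ n * x = 0) : ∀ a ∈ I ^ (k * n), a • x = 0 := fun a ha => by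
  have h2 : algebraMap R B a ∈ Ideal.span {F} ^ n := by
    refine Ideal.pow_right_mono h n ?_
    rw [← Ideal.map_pow, ← pow_mul]
    exact Ideal.mem_map_of_mem _ ha
  rw [Ideal.span_singleton_pow, Ideal.mem_span_singleton'] at h2
  obtain ⟨w, hw⟩ := h2
  rw [← map_pow] at hx
  rw [← algebraMap_smul B a x, ← hw, mul_smul, Algebra.smul_def (F ^ n) x, hx, smul_zero]

theorem powTorsion_iff (hR : AdicRing.IsBase R I) (hA : AdicRing.Admissible R I A) [Finite ι] (k : ℕ)
    (hopen : (I ^ k).map (algebraMap R A) ≤ Ideal.span (Set.range f)) (x : AdicRing.chartCompl I f i) :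
    (∃ n : ℕ, ∀ a ∈ I ^ n, a • x = 0) ↔
      ∃ n : ℕ, algebraMap A (AdicRing.chartCompl I f i) (f i) ^ n * x = 0 := by
  have hI := AdicRingLib.fg_of_isBase hR
  rw [IsScalarTower.algebraMap_apply A (AdicRing.chartAlg f i) (AdicRing.chartCompl I f i) (f i)]
  refine ⟨fun ⟨n, hx⟩ => exists_pow_mul_completion_eq_zero hI
      (good_of_finiteType hR (TopFinitePresentation.topFiniteType hA.1) (AdicRing.chartAlg f i)) _
      (exists_pow_mul_eq_zero_of_torsion hI hA.2) x n hx,
    fun ⟨n, hx⟩ => ⟨k * n, torsion_of_pow_mul_eq_zero ?_ x n hx⟩⟩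
  rw [IsScalarTower.algebraMap_eq R A (AdicRing.chartAlg f i), ← Ideal.map_map]
  refine (Ideal.map_mono hopen).trans ?_
  rw [Ideal.map_span, Ideal.span_le]
  rintro _ ⟨_, ⟨j, rfl⟩, rfl⟩
  exact algebraMap_mem_span j

end Groth.Agent.TopFin
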