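/-
Finite algebras over algebras topologically of finite type; adjoining integral elements of the generic fibre.
-/
import Groth.Agent.TopFin.Fp

set_option autoImplicit false
set_option linter.style.haveILetI false
set_option backward.isDefEq.respectTransparency false

universe u

open scoped TensorProduct

noncomputable section

namespace Groth.Agent.TopFin

variable {R : Type u} [CommRing R] {I : Ideal R}

theorem topFiniteType_of_finite (hR : AdicRing.IsBase R I) {A : Type u} [CommRing A] [Algebra R A]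
    (hA : AdicRing.TopFiniteType R I A) (B : Type u) [CommRing B] [Algebra R B] [Algebra A B] [IsScalarTower R A B]
    [Module.Finite A B] : AdicRing.TopFiniteType R I B := by
  have hI := AdicRingLib.fg_of_isBase hR
  haveI := isAdicComplete_finite hR hA B
  haveI : IsAdicComplete (I.map (algebraMap R B)) B :=
    (IsAdicComplete.map_algebraMap_iff (I := I) (M := B) (S := B)).2 inferInstance
  refine topFiniteType_of_finiteType hI ?_
  have hle : (I ^ 1).map (algebraMap R A) ≤ (I.map (algebraMap R B)).comap (algebraMap A B) := by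
    rw [← Ideal.map_le_iff_le_comap, Ideal.map_map, ← IsScalarTower.algebraMap_eq, pow_one]
  haveI := finiteType_trunc hI hA 1
  rw [← RingHom.finiteType_algebraMap]
  have h1 : (Ideal.quotientMap (I.map (algebraMap R B)) (algebraMap A B) hle).FiniteType := by
    refine RingHom.FiniteType.of_comp_finiteType (f := Ideal.Quotient.mk _) ?_
    rw [Ideal.quotientMap_comp_mk]
    exact RingHom.FiniteType.comp_surjective (RingHom.finiteType_algebraMap.2 inferInstance) Ideal.Quotient.mk_surjective
  have h2 := h1.comp (RingHom.finiteType_algebraMap.2 (inferInstance : Algebra.FiniteType R (A ⧸ (I ^ 1).map (algebraMap R A))))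
  convert h2 using 1
  refine RingHom.ext fun r => ?_
  show Ideal.Quotient.mk _ (algebraMap R B r) = Ideal.Quotient.mk _ (algebraMap A B (algebraMap R A r))
  rw [← IsScalarTower.algebraMap_apply]

variable [IsDomain R] {t : R}

theorem smul_fractionRing_eq_zero (A : Type u) [CommRing A] [Algebra R A] {a : R} (ha : a ≠ 0)
    {z : A ⊗[R] FractionRing R} (hz : a • z = 0) : z = 0 := by
  have hu : IsUnit (algebraMap R (A ⊗[R] FractionRing R) a) := by
    have h := (IsLocalization.map_units (FractionRing R) (⟨a, mem_nonZeroDivisors_of_ne_zero ha⟩ : nonZeroDivisors R)).map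
      (Algebra.TensorProduct.includeRight : FractionRing R →ₐ[R] A ⊗[R] FractionRing R)
    rwa [AlgHom.commutes] at h
  refine hu.mul_right_eq_zero.1 ?_
  exact (Algebra.smul_def a z).symm.trans hz

theorem algebraMap_fractionRing_injective {A : Type u} [CommRing A] [Algebra R A]
    (hA : ∀ (x : A) (a : R), a ≠ 0 → a • x = 0 → x = 0) : Function.Injective (algebraMap A (A ⊗[R] FractionRing R)) := by
  refine (injective_iff_map_eq_zero _).2 fun x hx => ?_
  have h : IsLocalization (Algebra.algebraMapSubmonoid A (nonZeroDivisors R)) (A ⊗[R] FractionRing R) := inferInstance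
  obtain ⟨⟨_, a, ha, rfl⟩, hax⟩ := (IsLocalization.map_eq_zero_iff (Algebra.algebraMapSubmonoid A (nonZeroDivisors R)) _ x).1 hx
  exact hA x a (nonZeroDivisors.ne_zero ha) (by rw [Algebra.smul_def]; exact hax)

theorem smul_eq_zero_of_admissible [ValuationRing R] [Ring.KrullDimLE 1 R] [IsAdicComplete (Ideal.span {t}) R]
    {A : Type u} [CommRing A] [Algebra R A] (hT : AdicRing.NoPowTorsion (Ideal.span {t}) A) (x : A) (a : R)
    (ha : a ≠ 0) (hx : a • x = 0) : x = 0 := by
  obtain ⟨k, c, hc⟩ := AdicRingLib.exists_pow_dvd_of_mem_maximalIdeal ha (AdicRingLib.mem_maximalIdeal t)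
  refine hT x k fun b hb => ?_
  rw [Ideal.span_singleton_pow, Ideal.mem_span_singleton'] at hb
  obtain ⟨d, rfl⟩ := hb
  rw [hc, mul_left_comm, mul_comm a, mul_smul, hx, smul_zero]

theorem admissible_adjoin [ValuationRing R] [Ring.KrullDimLE 1 R] [IsAdicComplete (Ideal.span {t}) R] (ht : t ≠ 0)
    (A : Type u) [CommRing A] [Algebra R A] (hA : AdicRing.Admissible R (Ideal.span {t}) A) {n : ℕ}
    (f : Fin n → A ⊗[R] FractionRing R) (hf : ∀ i, IsIntegral A (f i)) :
    AdicRing.Admissible R (Ideal.span {t}) ↥(Algebra.adjoin A (Set.range f)) ∧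
      Module.Finite A ↥(Algebra.adjoin A (Set.range f)) := by
  haveI : Module.Finite A ↥(Algebra.adjoin A (Set.range f)) :=
    Algebra.finite_adjoin_of_finite_of_isIntegral (Set.finite_range f) (by rintro _ ⟨i, rfl⟩; exact hf i)
  have hR : AdicRing.IsBase R (Ideal.span {t}) :=
    ⟨inferInstance, Or.inr ⟨inferInstance, inferInstance, inferInstance, t, ht, rfl⟩⟩
  have hT : AdicRing.NoPowTorsion (Ideal.span {t}) ↥(Algebra.adjoin A (Set.range f)) := fun x m hx => by
    refine Subtype.ext (smul_fractionRing_eq_zero A (pow_ne_zero m ht) ?_)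
    exact congrArg Subtype.val (hx _ (Ideal.pow_mem_pow (Ideal.mem_span_singleton_self t) m))
  exact ⟨⟨topFinitePresentation_of_noPowTorsion hR
    (topFiniteType_of_finite hR (hA.1.imp fun _ h => h.imp fun _ h => h.1) _) hT, hT⟩, inferInstance⟩

theorem existsUnique_extension [ValuationRing R] [Ring.KrullDimLE 1 R] [IsAdicComplete (Ideal.span {t}) R]
    (A : Type u) [CommRing A] [Algebra R A] (hA : AdicRing.Admissible R (Ideal.span {t}) A) {n : ℕ}
    (f : Fin n → A ⊗[R] FractionRing R) (hf : ∀ i, IsIntegral A (f i)) (c : R) (hc : c ≠ 0) (g : Fin n → A)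
    (hg : ∀ i, algebraMap A (A ⊗[R] FractionRing R) (g i) = c • f i) (D : Type u) [CommRing D] [Algebra R D]
    (hD : AdicRing.Admissible R (Ideal.span {t}) D) (φ : A →ₐ[R] D)
    (hgen : (Ideal.span (insert (algebraMap R A c) (Set.range g))).map φ = Ideal.span {algebraMap R D c} ∨
      ∃ i, (Ideal.span (insert (algebraMap R A c) (Set.range g))).map φ = Ideal.span {φ (g i)}) :
    (Ideal.span (insert (algebraMap R A c) (Set.range g))).map φ = Ideal.span {algebraMap R D c} ∧
      ∃! ψ : ↥(Algebra.adjoin A (Set.range f)) →ₐ[R] D,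
        ψ.comp (IsScalarTower.toAlgHom R A ↥(Algebra.adjoin A (Set.range f))) = φ := by
  classical
  have hDc : ∀ x : D, algebraMap R D c * x = 0 → x = 0 := fun x hx =>
    smul_eq_zero_of_admissible hD.2 x c hc (by rwa [Algebra.smul_def])
  have hAinj := algebraMap_fractionRing_injective (smul_eq_zero_of_admissible hA.2)
  have hDinj := algebraMap_fractionRing_injective (smul_eq_zero_of_admissible hD.2)
  set 𝔞 := Ideal.span (insert (algebraMap R A c) (Set.range g)) with h𝔞
  have hspan : 𝔞.map φ = Ideal.span {algebraMap R D c} := by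
    rcases hgen with h | ⟨i, h⟩
    · exact h
    have hcm : algebraMap R D c ∈ 𝔞.map φ := by
      rw [← φ.commutes]; exact Ideal.mem_map_of_mem φ (Ideal.subset_span (Set.mem_insert _ _))
    rw [h] at hcm ⊢
    obtain ⟨d, hd⟩ := Ideal.mem_span_singleton'.1 hcm
    obtain ⟨p, hp, hpf⟩ := hf i
    have h0 : Polynomial.eval (g i) (p.scaleRoots (algebraMap R A c)) = 0 := by
      apply hAinj
      rw [map_zero, ← Polynomial.eval₂_at_apply]
      have h1 := Polynomial.scaleRoots_eval₂_eq_zero (s := algebraMap R A c) (algebraMap A (A ⊗[R] FractionRing R)) hpf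
      rwa [← IsScalarTower.algebraMap_apply, ← Algebra.smul_def, ← hg] at h1
    have h2 : ∑ j ∈ Finset.range (p.natDegree + 1), φ (p.coeff j) * d ^ (p.natDegree - j) * φ (g i) ^ p.natDegree = 0 := by
      rw [← map_zero φ, ← h0, Polynomial.eval_eq_sum_range, Polynomial.natDegree_scaleRoots, map_sum]
      refine Finset.sum_congr rfl fun j hj => ?_
      rw [Polynomial.coeff_scaleRoots, map_mul, map_mul, map_pow, map_pow, φ.commutes, ← hd, mul_pow]
      obtain ⟨e, he⟩ := Nat.exists_eq_add_of_le (Nat.lt_succ_iff.1 (Finset.mem_range.1 hj))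
      rw [he, Nat.add_sub_cancel_left, pow_add]
      ring
    have hgnzd : ∀ x : D, φ (g i) * x = 0 → x = 0 := fun x hx => hDc x (by rw [← hd, mul_assoc, hx, mul_zero])
    have hpow : ∀ (m : ℕ) (x : D), x * φ (g i) ^ m = 0 → x = 0 := by
      intro m
      induction m with
      | zero => intro x hx; simpa using hx
      | succ m ih => intro x hx; exact hgnzd _ (ih (φ (g i) * x) (by rw [← hx, pow_succ]; ring))
    rw [← Finset.sum_mul] at h2
    have h3 := hpow _ _ h2
    rw [Finset.sum_range_succ, Nat.sub_self, pow_zero, mul_one, hp.coeff_natDegree, map_one] at h3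
    have hu : IsUnit d := by
      refine isUnit_of_dvd_one ?_
      rw [show (1 : D) = -∑ j ∈ Finset.range p.natDegree, φ (p.coeff j) * d ^ (p.natDegree - j) from eq_neg_of_add_eq_zero_right h3,
        dvd_neg]
      refine Finset.dvd_sum fun j hj => Dvd.dvd.mul_left (dvd_pow_self d ?_) _
      rw [Finset.mem_range] at hj
      omega
    rw [← hd]
    exact (Ideal.span_singleton_mul_left_unit hu _).symm
  refine ⟨hspan, ?_⟩
  have hgj : ∀ j, ∃ e : D, φ (g j) = algebraMap R D c * e := fun j => by
    have h := Ideal.mem_map_of_mem φ (Ideal.subset_span (Set.mem_insert_of_mem (algebraMap R A c) ⟨j, rfl⟩) : g j ∈ 𝔞)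
    rw [hspan] at h
    obtain ⟨e, he⟩ := Ideal.mem_span_singleton'.1 h
    exact ⟨e, by rw [← he, mul_comm]⟩
  choose e he using hgj
  let Φ : A ⊗[R] FractionRing R →ₐ[R] D ⊗[R] FractionRing R := Algebra.TensorProduct.map φ (AlgHom.id R _)
  let ιD : D →ₐ[R] D ⊗[R] FractionRing R := Algebra.TensorProduct.includeLeft
  have hΦA : ∀ a, Φ (algebraMap A _ a) = ιD (φ a) := fun a => by
    show Φ (a ⊗ₜ 1) = φ a ⊗ₜ 1
    simp [Φ]
  have hΦf : ∀ j, Φ (f j) = ιD (e j) := fun j => by
    refine sub_eq_zero.1 (smul_fractionRing_eq_zero D hc ?_)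
    rw [smul_sub, ← map_smul, ← map_smul, ← hg, hΦA, he, Algebra.smul_def, sub_self]
  let S := Algebra.adjoin A (Set.range f)
  have hrange : ∀ x : S, Φ (x : A ⊗[R] FractionRing R) ∈ ιD.range := fun ⟨x, hx⟩ => by
    induction hx using Algebra.adjoin_induction with
    | mem x hx => obtain ⟨j, rfl⟩ := hx; exact ⟨e j, (hΦf j).symm⟩
    | algebraMap a => exact ⟨φ a, (hΦA a).symm⟩
    | add x y _ _ hx hy => show Φ (x + y) ∈ _; rw [map_add]; exact add_mem hx hy
    | mul x y _ _ hx hy => show Φ (x * y) ∈ _; rw [map_mul]; exact mul_mem hx hy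
  let ψ : S →ₐ[R] D := (AlgEquiv.ofInjective ιD hDinj).symm.toAlgHom.comp
    ((Φ.comp (S.val.restrictScalars R)).codRestrict ιD.range hrange)
  have hψ : ∀ x : S, ιD (ψ x) = Φ (x : A ⊗[R] FractionRing R) := fun x =>
    congrArg Subtype.val ((AlgEquiv.ofInjective ιD hDinj).apply_symm_apply _)
  refine ⟨ψ, AlgHom.ext fun a => hDinj ((hψ _).trans (hΦA a)), fun ψ' hψ' => AlgHom.ext fun x => ?_⟩
  have hA' : ∀ a, ψ' (algebraMap A S a) = φ a := fun a => AlgHom.congr_fun hψ' a
  refine hDinj ?_
  show ιD (ψ' x) = ιD (ψ x)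
  rw [hψ]
  obtain ⟨x, hx⟩ := x
  induction hx using Algebra.adjoin_induction with
  | mem x hx =>
    obtain ⟨j, rfl⟩ := hx
    refine (congrArg ιD (sub_eq_zero.1 (hDc _ ?_))).trans (hΦf j).symm
    rw [mul_sub, sub_eq_zero, ← he, ← hA', ← Algebra.smul_def, ← map_smul]
    exact congrArg ψ' (Subtype.ext (hg j).symm)
  | algebraMap a => exact (congrArg ιD (hA' a)).trans (hΦA a).symm
  | add x y hx' hy' hx hy =>
    show ιD (ψ' (⟨x, hx'⟩ + ⟨y, hy'⟩)) = Φ (x + y)
    rw [map_add, map_add, map_add, hx, hy]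
  | mul x y hx' hy' hx hy =>
    show ιD (ψ' (⟨x, hx'⟩ * ⟨y, hy'⟩)) = Φ (x * y)
    rw [map_mul, map_mul, map_mul, hx, hy]

end Groth.Agent.TopFin
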